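import Groth.Agent.Misc12.NDeuring.Main
import Groth.Agent.QCohMod.Coherent

/-! Cancellation of powers of coherent modules. -/

set_option autoImplicit false
set_option linter.style.haveILetI false

universe u

open CategoryTheory Limits AlgebraicGeometry W4c1astiltbs12
open Groth.VBCurves

namespace Groth.Misc12.NDeuring

variable {k : Type u} [Field k] {X : Scheme.{u}} (p : X ⟶ Spec (CommRingCat.of k))

/-- A power of a decomposed module is decomposed. -/
noncomputable def powIso {F : X.Modules} {a : ℕ} {Fs : Fin a → X.Modules} (e : F ≅ ∐ Fs) (n : ℕ) :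
    pow F n ≅ ∐ fun j : Fin (n * a) => Fs (finProdFinEquiv.symm j).2 :=
  Sigma.whiskerEquiv (f := fun _ : Fin n => F) (g := fun _ : Fin n => ∐ Fs) (Equiv.refl _) (fun _ => e.symm) ≪≫
    sigmaSigmaIso (fun _ : Fin n => Fin a) (fun _ => Fs) ≪≫
      Sigma.whiskerEquiv (f := fun q : (_ : Fin n) × Fin a => Fs q.2)
        (g := fun j : Fin (n * a) => Fs (finProdFinEquiv.symm j).2)
        ((Equiv.sigmaEquivProd _ _).trans finProdFinEquiv)
        (fun q => eqToIso (by simp [Equiv.sigmaEquivProd]))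

/-- Coherent modules with isomorphic powers are isomorphic. -/
theorem iso_of_pow_iso [IsProper p] {F G : X.Modules} (hF : Coh.IsCoh F) (hG : Coh.IsCoh G) {n : ℕ}
    (hn : 0 < n) (h : Nonempty (pow F n ≅ pow G n)) : Nonempty (F ≅ G) := by
  classical
  let _ : X.Over (Spec (CommRingCat.of k)) := ⟨p⟩
  have : IsProper (X ↘ Spec (CommRingCat.of k)) := ‹IsProper p›
  have : IsLocallyNoetherian X := LocallyOfFiniteType.isLocallyNoetherian p
  haveI : Module.Finite k (End F) := KS.finite_hom k hF hF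
  haveI : Module.Finite k (End G) := KS.finite_hom k hG hG
  obtain ⟨a, Fs, hFs, ⟨eF⟩⟩ := KS.exists_decomp (k := k) _ F le_rfl
  obtain ⟨b, Gs, hGs, ⟨eG⟩⟩ := KS.exists_decomp (k := k) _ G le_rfl
  have hfin : ∀ i, Module.Finite k (End (Fs i)) := fun i => by
    rcases a with _ | a
    · exact i.elim0
    · exact (KS.finite_end_left (k := k) (eF ≪≫ (KS.splitAt i Fs).symm)).1
  obtain ⟨φ⟩ := h
  obtain ⟨e, he⟩ := KS.unique_decomp (k := k) (n * a) (n * b) _ _ (fun j => hfin _) (fun j => hFs _)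
    (fun j => hGs _) ⟨(powIso eF n).symm ≪≫ φ ≪≫ powIso eG n⟩
  let st : Setoid X.Modules :=
    ⟨fun M N => Nonempty (M ≅ N),
      ⟨fun M => ⟨Iso.refl M⟩, fun ⟨u⟩ => ⟨u.symm⟩, fun ⟨u⟩ ⟨v⟩ => ⟨u.trans v⟩⟩⟩
  let f : Fin a → Quotient st := fun i => Quotient.mk _ (Fs i)
  let g : Fin b → Quotient st := fun i => Quotient.mk _ (Gs i)
  let E : Fin n × Fin a ≃ Fin n × Fin b := (finProdFinEquiv.trans e).trans finProdFinEquiv.symm
  have hE : ∀ q, f q.2 = g (E q).2 := fun q => Quotient.sound (by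
    have := he (finProdFinEquiv q)
    rw [Equiv.symm_apply_apply] at this
    exact this)
  have hcard : ∀ c, Fintype.card {i // f i = c} = Fintype.card {i // g i = c} := fun c => by
    have h1 := Fintype.card_congr ((E.subtypeEquiv (p := fun q => f q.2 = c) (q := fun q => g q.2 = c)
      fun q => by rw [hE q]))
    have h2 : ∀ {β : Type} [Fintype β] (P : β → Prop) [DecidablePred P],
        Fintype.card {q : Fin n × β // P q.2} = n * Fintype.card {i // P i} := fun P _ => by
      rw [Fintype.card_congr (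
        { toFun := fun q => (q.1.1, ⟨q.1.2, q.2⟩)
          invFun := fun q => ⟨(q.1, q.2.1), q.2.2⟩
          left_inv := fun _ => rfl
          right_inv := fun _ => rfl } : {q : Fin n × _ // P q.2} ≃ Fin n × {i // P i}),
        Fintype.card_prod, Fintype.card_fin]
    rw [h2 (fun i => f i = c), h2 (fun i => g i = c)] at h1
    exact Nat.eq_of_mul_eq_mul_left hn h1
  let σ : Fin a ≃ Fin b := Equiv.ofFiberEquiv (f := f) (g := g) fun c => Fintype.equivOfCardEq (hcard c)
  have hσ : ∀ i, Nonempty (Gs (σ i) ≅ Fs i) := fun i =>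
    Quotient.exact (s := st) (Equiv.ofFiberEquiv_map _ i : g (σ i) = f i)
  exact ⟨eF ≪≫ Sigma.whiskerEquiv σ (fun i => (hσ i).some) ≪≫ eG.symm⟩

/-- Coherent modules isomorphic over an algebraic extension are isomorphic. -/
theorem iso_of_bc_iso [IsProper p] (K : Type u) [Field K] [Algebra k K] [Algebra.IsAlgebraic k K]
    {F G : X.Modules} (hF : Coh.IsCoh F) (hG : Coh.IsCoh G) (e : bcMod p K F ≅ bcMod p K G) :
    Nonempty (F ≅ G) := by
  obtain ⟨n, hn, h⟩ := exists_pow_iso p K F G hF hG e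
  exact iso_of_pow_iso p hF hG hn h

theorem isCoh_pow [IsLocallyNoetherian X] {F : X.Modules} (hF : Coh.IsCoh F) : ∀ n, Coh.IsCoh (pow F n)
  | 0 => Groth.QCohMod.isCoh_of_iso ((isZero_kernel_of_mono (𝟙 F)).iso (KS.isZero_coprod_zero _))
      (haveI := hF.1; Groth.QCohMod.isCoh_kernel (𝟙 F) hF)
  | n + 1 => Groth.QCohMod.isCoh_of_iso (KS.splitAt 0 fun _ : Fin (n + 1) => F)
      (Groth.QCohMod.isCoh_biprod hF (isCoh_pow hF n))

/-- Indecomposables of the same type over an algebraic extension are isomorphic. -/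
theorem iso_of_isotypical [IsProper p] (K : Type u) [Field K] [Algebra k K] [Algebra.IsAlgebraic k K]
    (W : (W4bk4gw11416.baseChange p K).Modules) {E E' : X.Modules} (hE : Coh.IsCoh E)
    (hE' : Coh.IsCoh E') (hi : KS.Ind E) (hi' : KS.Ind E') {r s : ℕ}
    (eE : bcMod p K E ≅ pow W r) (eE' : bcMod p K E' ≅ pow W s) : Nonempty (E ≅ E') := by
  let _ : X.Over (Spec (CommRingCat.of k)) := ⟨p⟩
  have : IsProper (X ↘ Spec (CommRingCat.of k)) := ‹IsProper p›
  have : IsLocallyNoetherian X := LocallyOfFiniteType.isLocallyNoetherian p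
  have hfin : Module.Finite k (End E) := KS.finite_hom k hE hE
  let pb : ∀ (M : X.Modules) (n : ℕ), bcMod p K (pow M n) ≅ pow (bcMod p K M) n := fun M n =>
    (PreservesCoproduct.iso (Scheme.Modules.pullback (proj p K)) fun _ : Fin n => M)
  let pp : ∀ {a n : ℕ} {M : X.Modules}, (bcMod p K M ≅ pow W a) → (bcMod p K (pow M n) ≅
      ∐ fun _ : Fin (n * a) => W) := fun {a n M} u => pb M n ≪≫
    Sigma.whiskerEquiv (f := fun _ : Fin n => bcMod p K M) (g := fun _ : Fin n => pow W a)
      (Equiv.refl _) (fun _ => u.symm) ≪≫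
    sigmaSigmaIso (fun _ : Fin n => Fin a) (fun _ _ => W) ≪≫
    Sigma.whiskerEquiv (f := fun _ : (_ : Fin n) × Fin a => W) (g := fun _ : Fin (n * a) => W)
      ((Equiv.sigmaEquivProd _ _).trans finProdFinEquiv) (fun _ => Iso.refl _)
  rcases Nat.eq_zero_or_pos s with hs | hs
  · subst hs
    have hz : IsZero (bcMod p K E') := (KS.isZero_coprod_zero _).of_iso eE'
    have hz0 : IsZero (bcMod p K (pow E' 0)) :=
      (Scheme.Modules.pullback (proj p K)).map_isZero (KS.isZero_coprod_zero _)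
    obtain ⟨u⟩ := iso_of_bc_iso p K hE' (isCoh_pow hE' 0) (hz.iso hz0)
    exact absurd ((KS.isZero_coprod_zero _).of_iso u) hi'.1
  obtain ⟨u⟩ := iso_of_bc_iso p K (isCoh_pow hE s) (isCoh_pow hE' r)
    (pp eE ≪≫ Sigma.whiskerEquiv (f := fun _ : Fin (s * r) => W) (g := fun _ : Fin (r * s) => W) (finCongr (Nat.mul_comm s r)) (fun _ => Iso.refl _) ≪≫ (pp eE').symm)
  obtain ⟨σ, hσ⟩ := KS.unique_decomp (k := k) s r (fun _ => E) (fun _ => E') (fun _ => hfin)
    (fun _ => hi) (fun _ => hi') ⟨u⟩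
  exact hσ ⟨0, hs⟩

end Groth.Misc12.NDeuring
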