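import Groth.Agent.Misc12.NDeuring.Galois
import Groth.Agent.LimitMod.FlatModel
import Groth.Agent.Cycles.SheafCyc
import Groth.Agent.DescentBase.QCohFpqc
import Mathlib.FieldTheory.IsSepClosed

/-! Indecomposable modules with given type over a separable closure. -/

set_option autoImplicit false
set_option linter.style.haveILetI false
set_option backward.isDefEq.respectTransparency.types false

universe u

open CategoryTheory Limits AlgebraicGeometry W4c1astiltbs12
open Groth.VBCurves

namespace Groth.Misc12.NDeuring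

variable {k : Type u} [Field k] {X : Scheme.{u}} (p : X ⟶ Spec (CommRingCat.of k))
variable (K : Type u) [Field K] [Algebra k K]

/-- A module of finite presentation comes from a finite subextension. -/
theorem exists_subfield_stage [IsProper p] [Algebra.IsAlgebraic k K]
    (W : (W4bk4gw11416.baseChange p K).Modules) [W.IsQuasicoherent] (hW : CohB1.IsFP W) :
    ∃ (L : IntermediateField k K) (_ : FiniteDimensional k L)
      (V : (W4bk4gw11416.baseChange p L).Modules) (_ : V.IsQuasicoherent), CohB1.IsFP V ∧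
        Nonempty ((Scheme.Modules.pullback (embProj p L K L.val)).obj V ≅ W) := by
  haveI : IsLocallyNoetherian X := LocallyOfFiniteType.isLocallyNoetherian p
  let t := finToBase k K
  let c : Cone (finSchemes k K) := Scheme.Spec.mapCone (finCocone k K).op
  let hc : IsLimit c := isLimitOfPreserves Scheme.Spec (isColimitFinCocone k K).op
  let τ : c.pt ⟶ Spec (CommRingCat.of k) := Spec.map (CommRingCat.ofHom (algebraMap k K))
  have hτ : ∀ i, c.π.app i ≫ t.app i = τ := fun i => by
    show Spec.map ((finCocone k K).ι.app i.unop) ≫ Spec.map _ = Spec.map _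
    rw [← Spec.map_comp]
    rfl
  let i₀ : (FinSub k K)ᵒᵖ := Opposite.op ⟨⊥, Subalgebra.fg_bot⟩
  let D := Groth.Limits.bcDiagram t p
  let cb := Groth.Limits.bcCone t p c τ hτ
  haveI : IsAffine ((finSchemes k K).obj i₀) := inferInstanceAs (IsAffine (Spec _))
  haveI : CompactSpace (D.obj i₀) := by
    have : QuasiCompact (pullback.snd p (t.app i₀)) := MorphismProperty.pullback_snd p (t.app i₀) inferInstance
    exact HasAffineProperty.iff_of_isAffine (P := @QuasiCompact).1 this
  have hqs : QuasiSeparated (pullback.snd p (t.app i₀)) := MorphismProperty.pullback_snd p (t.app i₀) inferInstance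
  haveI : QuasiSeparatedSpace (D.obj i₀) :=
    @quasiSeparatedSpace_of_quasiSeparated _ _ (pullback.snd p (t.app i₀)) inferInstance hqs
  let W' : cb.pt.Modules := W
  haveI : W'.IsQuasicoherent := ‹W.IsQuasicoherent›
  obtain ⟨j, -, V, hVq, hV, ⟨e⟩⟩ := Groth.LimitMod.exists_fp_stage (Groth.Limits.isLimitBcCone t p c τ hτ hc) i₀ W' hW
  let L : IntermediateField k K := j.unop.1.toIntermediateField fun x hx =>
    j.unop.1.inv_mem_of_algebraic (x := ⟨x, hx⟩) (Algebra.IsAlgebraic.isAlgebraic x)
  haveI : Algebra.FiniteType k j.unop.1 := j.unop.1.fg_iff_finiteType.1 j.unop.2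
  haveI : Algebra.IsIntegral k j.unop.1 := ⟨fun a => (isIntegral_algHom_iff j.unop.1.val Subtype.val_injective).1
    (Algebra.IsAlgebraic.isAlgebraic (a : K)).isIntegral⟩
  have hfin : FiniteDimensional k L := (Algebra.IsIntegral.finite : Module.Finite k j.unop.1)
  exact ⟨L, hfin, V, hVq, hV, ⟨e⟩⟩

theorem isFinLocFree_pow {Y : Scheme.{u}} {M : Y.Modules} (hM : FlatMod.IsFinLocFree M) :
    ∀ n, FlatMod.IsFinLocFree (pow M n)
  | 0 => Groth.KTheory.LocFree.isFinLocFree_zero (KS.isZero_coprod_zero _)
  | n + 1 => Groth.KTheory.LocFree.isFinLocFree_of_iso (KS.splitAt 0 fun _ : Fin (n + 1) => M)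
      (Groth.KTheory.LocFree.isFinLocFree_biprod hM (isFinLocFree_pow hM n))

/-- A Galois invariant indecomposable module is the type of an indecomposable module. -/
theorem exists_of_invariant [IsProper p] [IsSepClosure k K]
    (W : (W4bk4gw11416.baseChange p K).Modules) (hW : FlatMod.IsFinLocFree W) (hWi : KS.Ind W)
    (hinv : ∀ σ : K ≃ₐ[k] K, Nonempty ((Scheme.Modules.pullback (galAct p K σ)).obj W ≅ W)) :
    ∃ (M : X.Modules) (r : ℕ), FlatMod.IsFinLocFree M ∧ KS.Ind M ∧ 0 < r ∧
      Nonempty (bcMod p K M ≅ pow W r) := by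
  classical
  haveI : IsGalois k K := inferInstance
  haveI : Normal k K := inferInstance
  haveI : Algebra.IsAlgebraic k K := Algebra.IsSeparable.isAlgebraic k K
  haveI : IsLocallyNoetherian X := LocallyOfFiniteType.isLocallyNoetherian p
  let r : W4bk4gw11416.baseChange p K ⟶ Spec (CommRingCat.of K) :=
    pullback.snd p (Spec.map (CommRingCat.ofHom (algebraMap k K)))
  haveI : IsProper r := MorphismProperty.pullback_snd _ _ ‹IsProper p›
  haveI : IsLocallyNoetherian (W4bk4gw11416.baseChange p K) := LocallyOfFiniteType.isLocallyNoetherian r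
  have hWc := Groth.KTheory.LocFree.isCoh hW
  haveI := hWc.1
  obtain ⟨L, hLfin, V, hVq, hV, ⟨eV⟩⟩ := exists_subfield_stage p K W (Groth.FlatStrata.isFP_of_isCoh hWc)
  haveI : Algebra.IsSeparable k L := Algebra.isSeparable_tower_bot_of_isSeparable k L K
  have hsplit : ∀ x : L, ((minpoly k x).map (algebraMap k K)).Splits := fun x => by
    rw [← minpoly.algHom_eq L.val L.val.injective x]
    exact Normal.splits inferInstance _
  have hN : ∀ σ : L →ₐ[k] K, Nonempty ((Scheme.Modules.pullback (embProj p L K σ)).obj V ≅ W) := fun σ => by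
    let τ₀ : K →ₐ[k] K := σ.liftNormal K
    have hτ₀ : ∀ x : L, τ₀ (x : K) = σ x := fun x => σ.liftNormal_commutes K x
    let τ : K ≃ₐ[k] K := AlgEquiv.ofBijective τ₀ (Algebra.IsAlgebraic.algHom_bijective τ₀)
    have hcomp : galAct p K τ ≫ embProj p L K L.val = embProj p L K σ := by
      refine pullback.hom_ext ?_ ?_
      · simp only [embProj, galAct, Category.assoc, pullback.lift_fst]
        simp
      · simp only [embProj, galAct, Category.assoc, pullback.lift_snd, pullback.lift_snd_assoc]
        rw [← Spec.map_comp]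
        congr 2
        ext x
        exact hτ₀ x
    exact ⟨((Scheme.Modules.pullbackCongr hcomp).app V).symm ≪≫
      ((Scheme.Modules.pullbackComp _ _).app V).symm ≪≫
        (Scheme.Modules.pullback (galAct p K τ)).mapIso eV ≪≫ (hinv τ).some⟩
  obtain ⟨e⟩ := nonempty_split p L K V hsplit (N := W) hN
  have hd : 0 < Fintype.card (L →ₐ[k] K) := Fintype.card_pos_iff.2 ⟨L.val⟩
  haveI : IsLocallyNoetherian (W4bk4gw11416.baseChange p L) := by
    haveI : IsProper (pullback.snd p (Spec.map (CommRingCat.ofHom (algebraMap k L)))) :=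
      MorphismProperty.pullback_snd _ _ ‹IsProper p›
    exact LocallyOfFiniteType.isLocallyNoetherian (pullback.snd p (Spec.map (CommRingCat.ofHom (algebraMap k L))))
  haveI : IsFinite (Spec.map (CommRingCat.ofHom (algebraMap k L))) :=
    (IsFinite.SpecMap_iff _).2 (RingHom.finite_algebraMap.2 hLfin)
  haveI : IsFinite (proj p L) := MorphismProperty.pullback_fst _ _ inferInstance
  have hEc : Coh.IsCoh (down p L V) := Groth.Cycles.isCoh_push_of_isFinite (proj p L)
    ⟨hVq, Groth.PropsBasic.LocFree.isFT_of_isFP V hV⟩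
  haveI : Flat (Spec.map (CommRingCat.ofHom (algebraMap k K))) := by
    rw [Flat.SpecMap_iff]
    exact RingHom.flat_algebraMap_iff.2 inferInstance
  haveI : Surjective (Spec.map (CommRingCat.ofHom (algebraMap k K))) :=
    ⟨fun y => ⟨(⊥ : PrimeSpectrum K), Subsingleton.elim (α := PrimeSpectrum k) _ _⟩⟩
  haveI : QuasiCompact (proj p K) := MorphismProperty.pullback_fst _ _ inferInstance
  haveI : Flat (proj p K) := MorphismProperty.pullback_fst _ _ inferInstance
  haveI : Surjective (proj p K) := MorphismProperty.pullback_fst _ _ inferInstance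
  have hE : FlatMod.IsFinLocFree (down p L V) :=
    haveI := hEc.1
    Groth.DescentBase.QCohFpqc.isFinLocFree_of_pullback (proj p K) _
      (Groth.KTheory.LocFree.isFinLocFree_of_iso e.symm (isFinLocFree_pow hW _))
  have hE0 : ¬ IsZero (down p L V) := fun hz => hWi.1 (by
    have hz' : IsZero (pow W (Fintype.card (L →ₐ[k] K))) :=
      ((Scheme.Modules.pullback (proj p K)).map_isZero hz).of_iso e.symm
    rw [IsZero.iff_id_eq_zero]
    let i : W ⟶ pow W _ := Sigma.ι (fun _ : Fin (Fintype.card (L →ₐ[k] K)) => W) ⟨0, hd⟩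
    have : i ≫ (Sigma.desc fun _ => 𝟙 W) = 𝟙 W := Sigma.ι_desc _ _
    rw [← this, hz'.eq_of_tgt i 0, zero_comp])
  obtain ⟨G, n, a, hG, hGi, -, -, ⟨ea⟩⟩ := exists_indecomposable_pow p K hWc hWi hE hE0 e
  refine ⟨G, a, hG, hGi, Nat.pos_of_ne_zero ?_, ⟨ea⟩⟩
  rintro rfl
  have hGc := Groth.KTheory.LocFree.isCoh hG
  have hz : IsZero (bcMod p K G) := (KS.isZero_coprod_zero _).of_iso ea
  have hz0 : IsZero (bcMod p K (pow G 0)) :=
    (Scheme.Modules.pullback (proj p K)).map_isZero (KS.isZero_coprod_zero _)
  obtain ⟨u⟩ := iso_of_bc_iso p K hGc (isCoh_pow hGc 0) (hz.iso hz0)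
  exact hGi.1 ((KS.isZero_coprod_zero _).of_iso u)

end Groth.Misc12.NDeuring
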