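import Mathlib

/-! The matrix of the embeddings of a separable extension. -/

set_option autoImplicit false

universe u

namespace Groth.Misc12.NDeuring

variable {k : Type u} [Field k] (L : Type u) [Field L] [Algebra k L] [FiniteDimensional k L]
  [Algebra.IsSeparable k L] (K : Type u) [Field K] [Algebra k K]

open scoped Classical in
/-- Coefficients of the idempotents of `K ⊗ L` belonging to the embeddings. -/
theorem exists_dual_coeff (hsplit : ∀ x : L, ((minpoly k x).map (algebraMap k K)).Splits)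
    {n : ℕ} (β : Module.Basis (Fin n) k L) :
    ∃ C : (L →ₐ[k] K) → Fin n → K,
      (∀ σ τ : L →ₐ[k] K, ∑ i, C σ i * τ (β i) = if σ = τ then 1 else 0) ∧
      (∀ i j : Fin n, ∑ σ : L →ₐ[k] K, C σ i * σ (β j) = if i = j then 1 else 0) ∧
      (∀ (σ : L →ₐ[k] K) (j l : Fin n),
        ∑ i, C σ i * algebraMap k K (β.repr (β i * β j) l) = σ (β j) * C σ l) ∧
      ∀ i : Fin n, ∑ σ : L →ₐ[k] K, C σ i = algebraMap k K (β.repr 1 i) := by
  classical
  have hcard : Fintype.card (L →ₐ[k] K) = n := by
    rw [Fintype.card_eq_nat_card, AlgHom.natCard_of_splits k L K hsplit,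
      Module.finrank_eq_card_basis β, Fintype.card_fin]
  let e : Fin n ≃ (L →ₐ[k] K) := (Fintype.equivFinOfCardEq hcard).symm
  let M : Matrix (Fin n) (Fin n) K := fun a i => e a (β i)
  have hM : IsUnit M := by
    rw [← Matrix.linearIndependent_rows_iff_isUnit, Fintype.linearIndependent_iff]
    intro c hc
    have hli := (linearIndependent_toLinearMap k L K).comp e e.injective
    refine Fintype.linearIndependent_iff.1 hli c (β.ext fun i => ?_)
    have := congrFun hc i
    simpa [M] using this
  obtain ⟨N, hNM, hMN⟩ : ∃ N, N * M = 1 ∧ M * N = 1 := by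
    obtain ⟨u, hu⟩ := hM
    exact ⟨↑u⁻¹, by rw [← hu, Units.inv_mul], by rw [← hu, Units.mul_inv]⟩
  let C : (L →ₐ[k] K) → Fin n → K := fun σ i => N i (e.symm σ)
  have h1 : ∀ σ τ : L →ₐ[k] K, ∑ i, C σ i * τ (β i) = if σ = τ then 1 else 0 := fun σ τ => by
    have h := congrFun (congrFun hMN (e.symm τ)) (e.symm σ)
    rw [Matrix.mul_apply, Matrix.one_apply] at h
    simp only [M, Equiv.apply_symm_apply, EmbeddingLike.apply_eq_iff_eq] at h
    rw [show (if σ = τ then (1 : K) else 0) = if τ = σ then 1 else 0 by simp [eq_comm], ← h]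
    exact Finset.sum_congr rfl fun i _ => mul_comm _ _
  have h2 : ∀ i j : Fin n, ∑ σ : L →ₐ[k] K, C σ i * σ (β j) = if i = j then 1 else 0 := fun i j => by
    have h := congrFun (congrFun hNM i) j
    rw [Matrix.mul_apply, Matrix.one_apply] at h
    rw [← h, ← e.sum_comp]
    simp [C, M]
  have hrepr : ∀ (τ : L →ₐ[k] K) (x : L), τ x = ∑ l, algebraMap k K (β.repr x l) * τ (β l) := fun τ x => by
    conv_lhs => rw [← β.sum_repr x, map_sum]
    refine Finset.sum_congr rfl fun l _ => ?_
    rw [Algebra.smul_def, map_mul, AlgHom.commutes]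
  refine ⟨C, h1, h2, fun σ j l => ?_, fun i => ?_⟩
  · let x : Fin n → K := fun m => ∑ i, C σ i * algebraMap k K (β.repr (β i * β j) m)
    have hx : ∀ τ : L →ₐ[k] K, ∑ m, x m * τ (β m) = if σ = τ then σ (β j) else 0 := fun τ => by
      simp only [x, Finset.sum_mul]
      rw [Finset.sum_comm]
      simp only [mul_assoc, ← Finset.mul_sum, ← hrepr, map_mul]
      rw [show ∑ i, C σ i * (τ (β i) * τ (β j)) = (∑ i, C σ i * τ (β i)) * τ (β j) by
        rw [Finset.sum_mul]; exact Finset.sum_congr rfl fun i _ => (mul_assoc _ _ _).symm, h1]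
      split_ifs with h
      · rw [h, one_mul]
      · rw [zero_mul]
    calc x l = ∑ m, x m * (if l = m then 1 else 0) := by simp
      _ = ∑ m, x m * ∑ τ : L →ₐ[k] K, C τ l * τ (β m) := by simp only [h2]
      _ = ∑ τ : L →ₐ[k] K, C τ l * ∑ m, x m * τ (β m) := by
        simp only [Finset.mul_sum]
        rw [Finset.sum_comm]
        exact Finset.sum_congr rfl fun _ _ => Finset.sum_congr rfl fun _ _ => by ring
      _ = σ (β j) * C σ l := by simp only [hx]; simp [mul_comm]
  · calc ∑ σ : L →ₐ[k] K, C σ i = ∑ σ : L →ₐ[k] K, C σ i * ∑ j, algebraMap k K (β.repr 1 j) * σ (β j) := by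
          simp only [← hrepr, map_one, mul_one]
      _ = ∑ j, algebraMap k K (β.repr 1 j) * ∑ σ : L →ₐ[k] K, C σ i * σ (β j) := by
        simp only [Finset.mul_sum]
        rw [Finset.sum_comm]
        exact Finset.sum_congr rfl fun _ _ => Finset.sum_congr rfl fun _ _ => by ring
      _ = _ := by simp [h2]

end Groth.Misc12.NDeuring
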