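import Groth.Agent.Misc12.NDeuring.Retract

/-! Isotypical modules are powers of an indecomposable. -/

set_option autoImplicit false
set_option linter.style.haveILetI false

universe u

open CategoryTheory Limits AlgebraicGeometry W4c1astiltbs12
open Groth.VBCurves

namespace Groth.Misc12.NDeuring

variable {k : Type u} [Field k] {X : Scheme.{u}} (p : X ⟶ Spec (CommRingCat.of k))

theorem isCoh_bc (K : Type u) [Field K] [Algebra k K] {M : X.Modules} (hM : Coh.IsCoh M) :
    Coh.IsCoh (bcMod p K M) :=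
  haveI := hM.1
  ⟨Groth.QCohMod.isQCoh_pullback_obj _ M, Groth.QCohMod.isFT_pullback _ M hM.2⟩

/-- A retract of an isotypical module is isotypical. -/
theorem bc_retract [IsProper p] (K : Type u) [Field K] [Algebra k K]
    {W : (W4bk4gw11416.baseChange p K).Modules} (hW : Coh.IsCoh W) (hWi : KS.Ind W) {r : ℕ}
    {E G : X.Modules} (hG : Coh.IsCoh G) (e : bcMod p K E ≅ pow W r) (u : G ⟶ E) (v : E ⟶ G)
    (h : u ≫ v = 𝟙 G) : ∃ a, Nonempty (bcMod p K G ≅ pow W a) := by
  let q : W4bk4gw11416.baseChange p K ⟶ Spec (CommRingCat.of K) :=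
    pullback.snd p (Spec.map (CommRingCat.ofHom (algebraMap k K)))
  haveI : IsProper q := MorphismProperty.pullback_snd _ _ ‹IsProper p›
  refine iso_pow_of_retract q hW hWi (isCoh_bc p K hG)
    ((Scheme.Modules.pullback (proj p K)).map u ≫ e.hom) (e.inv ≫ (Scheme.Modules.pullback (proj p K)).map v) ?_
  rw [Category.assoc, e.hom_inv_id_assoc, ← Functor.map_comp, h]
  exact CategoryTheory.Functor.map_id _ _

/-- The isotypical decomposition. -/
theorem exists_indecomposable_pow [IsProper p] (K : Type u) [Field K] [Algebra k K]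
    [Algebra.IsAlgebraic k K] {W : (W4bk4gw11416.baseChange p K).Modules} (hW : Coh.IsCoh W)
    (hWi : KS.Ind W) {r : ℕ} {E : X.Modules} (hE : FlatMod.IsFinLocFree E) (hE0 : ¬ IsZero E)
    (e : bcMod p K E ≅ pow W r) :
    ∃ (G : X.Modules) (n a : ℕ), FlatMod.IsFinLocFree G ∧ KS.Ind G ∧ 0 < n ∧
      Nonempty (E ≅ pow G n) ∧ Nonempty (bcMod p K G ≅ pow W a) := by
  classical
  let _ : X.Over (Spec (CommRingCat.of k)) := ⟨p⟩
  have : IsProper (X ↘ Spec (CommRingCat.of k)) := ‹IsProper p›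
  have : IsLocallyNoetherian X := LocallyOfFiniteType.isLocallyNoetherian p
  have hEc := Groth.KTheory.LocFree.isCoh hE
  haveI : Module.Finite k (End E) := KS.finite_hom k hEc hEc
  obtain ⟨n, Fs, hFs, ⟨eE⟩⟩ := KS.exists_decomp (k := k) _ E le_rfl
  rcases n with _ | n
  · exact absurd ((KS.isZero_coprod_zero Fs).of_iso eE) hE0
  let u : ∀ i, Fs i ⟶ E := fun i => Sigma.ι Fs i ≫ eE.inv
  let v : ∀ i, E ⟶ Fs i := fun i =>
    eE.hom ≫ Sigma.desc fun l => if hl : l = i then eqToHom (congrArg Fs hl) else 0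
  have huv : ∀ i, u i ≫ v i = 𝟙 _ := fun i => by simp [u, v]
  have hlf : ∀ i, Coh.IsCoh (Fs i) ∧ FlatMod.IsFinLocFree (Fs i) := fun i =>
    isFinLocFree_of_retract (u i) (v i) (huv i) hE
  have hbc := fun i => bc_retract p K hW hWi (hlf i).1 e (u i) (v i) (huv i)
  choose a ha using hbc
  have hsame : ∀ i, Nonempty (Fs i ≅ Fs 0) := fun i =>
    iso_of_isotypical p K W (hlf i).1 (hlf 0).1 (hFs i) (hFs 0) (ha i).some (ha 0).some
  exact ⟨Fs 0, n + 1, a 0, (hlf 0).2, hFs 0, Nat.succ_pos _,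
    ⟨eE ≪≫ Sigma.whiskerEquiv (Equiv.refl _) (fun i => (hsame i).some.symm)⟩, ha 0⟩

/-- The indecomposable factor of an isotypical module is unique. -/
theorem iso_of_pow [IsProper p] (K : Type u) [Field K] [Algebra k K] [Algebra.IsAlgebraic k K]
    {W : (W4bk4gw11416.baseChange p K).Modules} (hW : Coh.IsCoh W)
    (hWi : KS.Ind W) {r : ℕ} {E : X.Modules} (hE : FlatMod.IsFinLocFree E) (hE0 : ¬ IsZero E)
    (e : bcMod p K E ≅ pow W r) {G G' : X.Modules} (hG : KS.Ind G) (hG' : KS.Ind G') {n m : ℕ}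
    (u : E ≅ pow G n) (v : E ≅ pow G' m) : Nonempty (G ≅ G') := by
  have : IsLocallyNoetherian X := LocallyOfFiniteType.isLocallyNoetherian p
  have key : ∀ {M : X.Modules} {l : ℕ}, (E ≅ pow M l) →
      Coh.IsCoh M ∧ ∃ a, Nonempty (bcMod p K M ≅ pow W a) := fun {M l} w => by
    rcases l with _ | l
    · exact absurd ((KS.isZero_coprod_zero _).of_iso w) hE0
    let i : M ⟶ E := Sigma.ι (fun _ : Fin (l + 1) => M) 0 ≫ w.inv
    let π : E ⟶ M := w.hom ≫ Sigma.desc fun j => if j = 0 then 𝟙 M else 0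
    have h : i ≫ π = 𝟙 M := by simp [i, π]
    obtain ⟨hc, -⟩ := isFinLocFree_of_retract i π h hE
    exact ⟨hc, bc_retract p K hW hWi hc e i π h⟩
  obtain ⟨hGc, a, ⟨ea⟩⟩ := key u
  obtain ⟨hGc', b, ⟨eb⟩⟩ := key v
  exact iso_of_isotypical p K W hGc hGc' hG hG' ea eb

end Groth.Misc12.NDeuring
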