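import Groth.Agent.Misc12.NDeuring.HomSpan
import Groth.Agent.Misc12.NDeuring.Isotypic
import Groth.Agent.VectorBundles.LineBundleHom
import Mathlib.RingTheory.SimpleRing.Basic

/-! Endomorphisms of isotypical modules over an algebraic closure. -/

set_option autoImplicit false
set_option linter.style.haveILetI false
set_option backward.isDefEq.respectTransparency.types false

universe u

open CategoryTheory Limits AlgebraicGeometry TensorProduct W4c1astiltbs12 Groth.PicAux

namespace Groth.Misc12.NDeuring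

variable {k : Type u} [Field k] {X : Scheme.{u}} (p : X ⟶ Spec (CommRingCat.of k))
variable (K : Type u) [Field K] [Algebra k K]

/-- An element of the field as a function on the base change. -/
noncomputable def glob : K →+* Γ(W4bk4gw11416.baseChange p K, ⊤) :=
  ((pullback.snd p (Spec.map (CommRingCat.ofHom (algebraMap k K)))).appTop).hom.comp
    (Scheme.ΓSpecIso (CommRingCat.of K)).inv.hom

/-- An element of the base field as a function. -/
noncomputable def gbase : k →+* Γ(X, ⊤) := p.appTop.hom.comp (Scheme.ΓSpecIso (CommRingCat.of k)).inv.hom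

theorem glob_algebraMap (a : k) : glob p K (algebraMap k K a) = (proj p K).appTop (gbase p a) := by
  have hw := congrArg (fun t => t.appTop) (pullback.condition (f := p) (g := Spec.map (CommRingCat.ofHom (algebraMap k K))))
  simp only [Scheme.Hom.comp_appTop] at hw
  have h1 := Scheme.ΓSpecIso_inv_naturality (CommRingCat.ofHom (algebraMap k K))
  have e1 : (Scheme.ΓSpecIso (CommRingCat.of K)).inv (algebraMap k K a) =
      (Spec.map (CommRingCat.ofHom (algebraMap k K))).appTop ((Scheme.ΓSpecIso (CommRingCat.of k)).inv a) :=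
    ConcreteCategory.congr_hom h1 a
  show (pullback.snd p (Spec.map (CommRingCat.ofHom (algebraMap k K)))).appTop
    ((Scheme.ΓSpecIso (CommRingCat.of K)).inv (algebraMap k K a)) = _
  rw [e1]
  exact (ConcreteCategory.congr_hom hw ((Scheme.ΓSpecIso (CommRingCat.of k)).inv a)).symm

/-- A basis of the field is a basis of the functions on the base change. -/
theorem isFreeBasis_glob {ι : Type u} (b : Module.Basis ι k K) :
    IsFreeBasis (proj p K) fun i => glob p K (b i) := by
  classical
  intro W hW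
  let q : W4bk4gw11416.baseChange p K ⟶ X := proj p K
  let r : W4bk4gw11416.baseChange p K ⟶ Spec (CommRingCat.of K) :=
    pullback.snd p (Spec.map (CommRingCat.ofHom (algebraMap k K)))
  have h : IsPullback q r p (Spec.map (CommRingCat.ofHom (algebraMap k K))) := IsPullback.of_hasPullback _ _
  have hUY : q ⁻¹ᵁ W = q ⁻¹ᵁ W ⊓ r ⁻¹ᵁ ⊤ := by simp
  have h0 := (isIso_pushoutSection_iff h (US := ⊤) (UT := ⊤) (UX := W) le_top le_top hUY).1
    (isIso_pushoutSection_of_isAffineOpen h le_top le_top hUY (isAffineOpen_top _) (isAffineOpen_top _) hW)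
  let φW : k →+* Γ(X, W) := (p.appLE ⊤ W le_top).hom.comp (Scheme.ΓSpecIso (CommRingCat.of k)).inv.hom
  let φA : K →+* Γ(W4bk4gw11416.baseChange p K, q ⁻¹ᵁ W) :=
    (r.appLE ⊤ (q ⁻¹ᵁ W) le_top).hom.comp (Scheme.ΓSpecIso (CommRingCat.of K)).inv.hom
  let φq : Γ(X, W) →+* Γ(W4bk4gw11416.baseChange p K, q ⁻¹ᵁ W) := (q.appLE W (q ⁻¹ᵁ W) le_rfl).hom
  have h1 : IsPushout (CommRingCat.ofHom φW) (CommRingCat.ofHom (algebraMap k K))
      (CommRingCat.ofHom φq) (CommRingCat.ofHom φA) := by
    refine h0.of_iso (Scheme.ΓSpecIso (CommRingCat.of k)) (Iso.refl _)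
      (Scheme.ΓSpecIso (CommRingCat.of K)) (Iso.refl _) ?_ ?_ ?_ ?_
    · ext x
      simp [φW]
    · rw [show (Spec.map (CommRingCat.ofHom (algebraMap k K))).appLE ⊤ ⊤ le_top =
        (Spec.map (CommRingCat.ofHom (algebraMap k K))).appTop from Scheme.Hom.appLE_eq_app _]
      exact Scheme.ΓSpecIso_naturality _
    · simp [φq]
    · ext x
      simp [φA]
  letI := φW.toAlgebra
  letI := φA.toAlgebra
  letI := φq.toAlgebra
  letI : Algebra k Γ(W4bk4gw11416.baseChange p K, q ⁻¹ᵁ W) := (φq.comp φW).toAlgebra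
  haveI : IsScalarTower k Γ(X, W) Γ(W4bk4gw11416.baseChange p K, q ⁻¹ᵁ W) := IsScalarTower.of_algebraMap_eq' rfl
  haveI : IsScalarTower k K Γ(W4bk4gw11416.baseChange p K, q ⁻¹ᵁ W) :=
    IsScalarTower.of_algebraMap_eq' (congrArg CommRingCat.Hom.hom h1.w)
  have h2 : Algebra.IsPushout k Γ(X, W) K Γ(W4bk4gw11416.baseChange p K, q ⁻¹ᵁ W) :=
    CommRingCat.isPushout_iff_isPushout.1 h1
  let B : Module.Basis ι Γ(X, W) Γ(W4bk4gw11416.baseChange p K, q ⁻¹ᵁ W) :=
    (Algebra.TensorProduct.basis Γ(X, W) b).map h2.out.equiv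
  have hB : ∀ i, B i = φA (b i) := fun i => by
    simp [B, IsBaseChange.equiv_tmul]
    rfl
  convert B.repr.symm.bijective using 1
  funext c
  rw [Module.Basis.repr_symm_apply, Finsupp.linearCombination_apply]
  refine Finsupp.sum_congr fun i _ => ?_
  rw [hB, Algebra.smul_def]
  show q.app W (c i) * _ = φq (c i) * _
  congr 1
  simp [φq, Scheme.Hom.appLE_eq_app]

/-- Pullback of multiplication by a function. -/
theorem map_scal {Z : Scheme.{u}} (f : Z ⟶ X) (M : X.Modules) (t : Γ(X, ⊤)) :
    (Scheme.Modules.pullback f).map (scal M t) = scal _ (f.appTop t) := by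
  refine ((Scheme.Modules.pullbackPushforwardAdjunction f).homEquiv _ _).injective
    (Groth.KTheory.ExtFilt.hom_ext_affine fun W _ x => ?_)
  rw [Adjunction.homEquiv_unit, Adjunction.homEquiv_unit]
  show ((Scheme.Modules.pullback f).map (scal M t)).app (f ⁻¹ᵁ W) (pullSec f M x) =
    resX Z (le_top : f ⁻¹ᵁ W ≤ ⊤) (f.appTop t) • pullSec f M x
  rw [pullSec_map]
  show pullSec f M (resX X (le_top : W ≤ ⊤) t • x) = _
  rw [pullSec_smul]
  congr 1
  exact ConcreteCategory.congr_hom (f.naturality (homOfLE (le_top : W ≤ ⊤)).op) t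

theorem scal_comp_scal {Z : Scheme.{u}} (M : Z.Modules) (a c : Γ(Z, ⊤)) :
    scal M a ≫ scal M c = scal M (a * c) := by
  refine Groth.KTheory.ExtFilt.hom_ext_affine fun W _ x => ?_
  show resX Z (le_top : W ≤ ⊤) c • resX Z (le_top : W ≤ ⊤) a • x = resX Z (le_top : W ≤ ⊤) (a * c) • x
  rw [map_mul, ← mul_smul, mul_comm]

theorem scal_comm {Z : Scheme.{u}} {M N : Z.Modules} (φ : M ⟶ N) (c : Γ(Z, ⊤)) :
    scal M c ≫ φ = φ ≫ scal N c := by
  refine Groth.KTheory.ExtFilt.hom_ext_affine fun W _ x => ?_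
  exact Scheme.Modules.Hom.app_smul φ _ x

theorem scal_add {Z : Scheme.{u}} (M : Z.Modules) (a c : Γ(Z, ⊤)) :
    scal M (a + c) = scal M a + scal M c := by
  refine Groth.KTheory.ExtFilt.hom_ext_affine fun W _ x => ?_
  show resX Z (le_top : W ≤ ⊤) (a + c) • x = resX Z (le_top : W ≤ ⊤) a • x + resX Z (le_top : W ≤ ⊤) c • x
  rw [map_add, add_smul]

theorem scal_one {Z : Scheme.{u}} (M : Z.Modules) : scal M 1 = 𝟙 M := by
  refine Groth.KTheory.ExtFilt.hom_ext_affine fun W _ x => ?_
  show resX Z (le_top : W ≤ ⊤) (1 : Γ(Z, ⊤)) • x = x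
  rw [map_one, one_smul]

theorem scal_zero {Z : Scheme.{u}} (M : Z.Modules) : scal M 0 = 0 := by
  refine Groth.KTheory.ExtFilt.hom_ext_affine fun W _ x => ?_
  show resX Z (le_top : W ≤ ⊤) (0 : Γ(Z, ⊤)) • x = _
  rw [map_zero, zero_smul]
  rfl

theorem scal_sum {Z : Scheme.{u}} (M : Z.Modules) {α : Type*} (S : Finset α) (f : α → Γ(Z, ⊤)) :
    scal M (∑ i ∈ S, f i) = ∑ i ∈ S, scal M (f i) := by
  classical
  induction S using Finset.induction_on with
  | empty => simp [scal_zero]
  | insert a S ha ih => rw [Finset.sum_insert ha, Finset.sum_insert ha, scal_add, ih]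

/-- Constants are the only functions over an algebraic closure. -/
theorem glob_surjective [IsProper p] [GeometricallyIntegral p] [IsAlgClosed K] :
    Function.Surjective (glob p K) := by
  let r : W4bk4gw11416.baseChange p K ⟶ Spec (CommRingCat.of K) :=
    pullback.snd p (Spec.map (CommRingCat.ofHom (algebraMap k K)))
  haveI : IsProper r := MorphismProperty.pullback_snd _ _ ‹IsProper p›
  haveI : GeometricallyIntegral r := MorphismProperty.pullback_snd _ _ ‹GeometricallyIntegral p›
  haveI : IsLocallyNoetherian (W4bk4gw11416.baseChange p K) := LocallyOfFiniteType.isLocallyNoetherian r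
  haveI : IsIntegral (W4bk4gw11416.baseChange p K) := GeometricallyIntegral.isIntegral_of_subsingleton r
  letI := (glob p K).toAlgebra
  have hint : (glob p K).IsIntegral := by
    show (((Scheme.ΓSpecIso (CommRingCat.of K)).inv ≫ r.appTop).hom).IsIntegral
    apply RingHom.isIntegral_respectsIso.2 (e := (Scheme.ΓSpecIso (CommRingCat.of K)).symm.commRingCatIsoToRingEquiv)
    exact isIntegral_appTop_of_universallyClosed r
  haveI : Algebra.IsIntegral K Γ(W4bk4gw11416.baseChange p K, ⊤) := ⟨hint⟩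
  exact (IsAlgClosed.algebraMap_bijective_of_isIntegral (k := K)).2

/-- The endomorphism ring of an isotypical bundle is simple. -/
theorem isSimpleRing_end_of_surjective [IsProper p] (hsurj : Function.Surjective (glob p K))
    {E : X.Modules} (hE : Coh.IsCoh E) (hE0 : ¬ IsZero E) {L : (W4bk4gw11416.baseChange p K).Modules}
    (hL : PicF.IsInvertible L) {r : ℕ} (e : bcMod p K E ≅ pow L r) : IsSimpleRing (End E) := by
  classical
  haveI : CompactSpace X := HasAffineProperty.iff_of_isAffine (P := @QuasiCompact).1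
    (inferInstance : QuasiCompact p)
  haveI : IsAffineHom (proj p K) := MorphismProperty.pullback_fst _ _ inferInstance
  haveI := hE.1
  haveI : Nontrivial (End E) := ⟨⟨𝟙 E, 0, fun h => hE0 ((IsZero.iff_id_eq_zero E).2 h)⟩⟩
  let b := Module.Basis.ofVectorSpace k K
  have hb := isFreeBasis_glob p K b
  let M := bcMod p K E
  let pb : (E ⟶ E) → (M ⟶ M) := fun g => (Scheme.Modules.pullback (proj p K)).map g
  refine IsSimpleRing.of_eq_bot_or_eq_top fun I => ?_
  rw [or_iff_not_imp_left, ← I.one_mem_iff]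
  intro hI
  obtain ⟨g, hgI, hg⟩ : ∃ g ∈ I, g ≠ 0 := by
    by_contra! hh
    exact hI (le_antisymm (fun x hx => (TwoSidedIdeal.mem_bot _).2 (hh x hx)) bot_le)
  -- the span of the ideal
  let P : (M ⟶ M) → Prop := fun h => ∃ (S : Finset _) (z : _ → End E), (∀ t, z t ∈ I) ∧
    h = ∑ t ∈ S, pb (z t) ≫ scal M (glob p K (b t))
  have Padd : ∀ h h', P h → P h' → P (h + h') := by
    rintro h h' ⟨S, z, hz, rfl⟩ ⟨S', z', hz', rfl⟩
    refine ⟨S ∪ S', fun t => (if t ∈ S then z t else 0) + (if t ∈ S' then z' t else 0), fun t => ?_, ?_⟩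
    · refine I.add_mem ?_ ?_ <;> split_ifs <;> first | exact hz t | exact hz' t | exact I.zero_mem
    · have hadd : ∀ u v : E ⟶ E, pb (u + v) = pb u + pb v := fun u v => Functor.map_add _
      simp only [hadd, Preadditive.add_comp, Finset.sum_add_distrib]
      congr 1
      · rw [← Finset.sum_subset Finset.subset_union_left (fun t _ ht => by simp [ht, pb])]
        exact Finset.sum_congr rfl fun t ht => by rw [if_pos ht]
      · rw [← Finset.sum_subset Finset.subset_union_right (fun t _ ht => by simp [ht, pb])]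
        exact Finset.sum_congr rfl fun t ht => by rw [if_pos ht]
  have Pzero : P 0 := ⟨∅, fun _ => 0, fun _ => I.zero_mem, by simp⟩
  have Psum : ∀ {α : Type u} (S : Finset α) (f : α → (M ⟶ M)), (∀ a ∈ S, P (f a)) → P (∑ a ∈ S, f a) :=
    fun S f hf => Finset.sum_induction f P Padd Pzero hf
  have hk : ∀ (a : k) (x : K), scal M (glob p K (a • x)) = pb (scal E (gbase p a)) ≫ scal M (glob p K x) := by
    intro a x
    show _ = (Scheme.Modules.pullback (proj p K)).map (scal E (gbase p a)) ≫ _
    rw [map_scal, scal_comp_scal, Algebra.smul_def, map_mul, glob_algebraMap]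
  have Pterm : ∀ (z : End E) (c : K), z ∈ I → P (pb z ≫ scal M (glob p K c)) := by
    intro z c hz
    refine ⟨(b.repr c).support, fun t => z ≫ scal E (gbase p (b.repr c t)), fun t => I.mul_mem_left _ _ hz, ?_⟩
    conv_lhs => rw [← b.linearCombination_repr c, Finsupp.linearCombination_apply, Finsupp.sum, map_sum,
      scal_sum, Preadditive.comp_sum]
    refine Finset.sum_congr rfl fun t _ => ?_
    rw [hk]
    simp [pb]
  have hspan : ∀ h : M ⟶ M, ∃ (S : Finset _) (x : _ → (E ⟶ E)),
      h = ∑ i ∈ S, pb (x i) ≫ scal M (glob p K (b i)) := fun h => exists_eq_sum _ _ hb hE.2 h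
  have Pmul : ∀ a a' : M ⟶ M, P (a ≫ pb g ≫ a') := by
    intro a a'
    obtain ⟨S, x, rfl⟩ := hspan a
    obtain ⟨S', y, rfl⟩ := hspan a'
    simp only [Preadditive.comp_sum, Preadditive.sum_comp]
    refine Psum _ _ fun i _ => Psum _ _ fun j _ => ?_
    have : (pb (x j) ≫ scal M (glob p K (b j))) ≫ pb g ≫ pb (y i) ≫ scal M (glob p K (b i)) =
        pb (x j ≫ g ≫ y i) ≫ scal M (glob p K (b j * b i)) := by
      rw [Category.assoc, ← Category.assoc (scal M _), scal_comm, Category.assoc,
        ← Category.assoc (scal M _), scal_comm, Category.assoc, scal_comp_scal, ← map_mul]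
      simp [pb]
    rw [this]
    exact Pterm _ _ (I.mul_mem_left _ _ (I.mul_mem_right _ _ hgI) |> fun hh => by
      simpa [End.mul_def] using hh)
  -- a nonzero entry
  have hg' : pb g ≠ 0 := fun h0 => hg (by
    have hc : pb g = pb g ≫ scal M (glob p K 1) := by rw [map_one, scal_one, Category.comp_id]
    have hd : pb g ≫ scal M (glob p K 1) = ∑ t ∈ (b.repr 1).support,
        pb (g ≫ scal E (gbase p (b.repr 1 t))) ≫ scal M (glob p K (b t)) := by
      conv_lhs => rw [← b.linearCombination_repr (1 : K), Finsupp.linearCombination_apply, Finsupp.sum, map_sum,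
        scal_sum, Preadditive.comp_sum]
      refine Finset.sum_congr rfl fun t _ => ?_
      rw [hk]
      simp [pb]
    obtain ⟨t, ht⟩ : (b.repr (1 : K)).support.Nonempty := Finsupp.support_nonempty_iff.2 (by simp)
    have h1 := eq_zero_of_sum _ _ hb _ _ (hd.symm.trans (hc.symm.trans h0)) t ht
    have hu : IsUnit (gbase p (b.repr 1 t)) := (Ne.isUnit (Finsupp.mem_support_iff.1 ht)).map _
    obtain ⟨v, hv⟩ := hu
    have h2 := congrArg (· ≫ scal E ↑v⁻¹) h1
    simp only [Category.assoc, scal_comp_scal, zero_comp] at h2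
    rwa [← hv, v.mul_inv, scal_one, Category.comp_id] at h2)
  let ι' : ∀ i : Fin r, L ⟶ M := fun i => Sigma.ι (fun _ => L) i ≫ e.inv
  let π' : ∀ i : Fin r, M ⟶ L := fun i => e.hom ≫ Sigma.desc fun l => if l = i then 𝟙 L else 0
  have hid : ∑ i, π' i ≫ ι' i = 𝟙 M := by
    have h : ∑ i, (Sigma.desc fun l : Fin r => if l = i then 𝟙 L else 0) ≫ Sigma.ι (fun _ : Fin r => L) i =
        𝟙 (pow L r) := by
      refine Sigma.hom_ext _ _ fun l => ?_
      rw [Preadditive.comp_sum, Category.comp_id, Finset.sum_eq_single l]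
      · simp
      · intro i _ hi; simp [Ne.symm hi]
      · exact fun h => absurd (Finset.mem_univ l) h
    simp only [π', ι', Category.assoc]
    rw [← Preadditive.comp_sum]
    simp only [← Category.assoc (Sigma.desc _)]
    rw [← Preadditive.sum_comp, h, Category.id_comp, e.hom_inv_id]
  obtain ⟨i, j, hij⟩ : ∃ i j, ι' i ≫ pb g ≫ π' j ≠ 0 := by
    by_contra! hh
    refine hg' ?_
    calc pb g = (∑ i, π' i ≫ ι' i) ≫ pb g ≫ (∑ j, π' j ≫ ι' j) := by rw [hid, Category.id_comp, Category.comp_id]
      _ = 0 := by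
        simp only [Preadditive.sum_comp, Preadditive.comp_sum]
        refine Finset.sum_eq_zero fun j _ => Finset.sum_eq_zero fun i _ => ?_
        rw [show (π' i ≫ ι' i) ≫ pb g ≫ π' j ≫ ι' j = π' i ≫ (ι' i ≫ pb g ≫ π' j) ≫ ι' j by
          simp only [Category.assoc], hh, zero_comp, comp_zero]
  obtain ⟨t, ht⟩ := Groth.VectorBundles.exists_eq_smul_of_isInvertible hL (ι' i ≫ pb g ≫ π' j)
  obtain ⟨c, rfl⟩ := hsurj t
  have hsc : ι' i ≫ pb g ≫ π' j = scal L (glob p K c) :=
    Groth.KTheory.ExtFilt.hom_ext_affine fun W _ x => ht W x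
  have hc : c ≠ 0 := fun h => hij (by rw [hsc, h, map_zero, scal_zero])
  have hone : P (𝟙 M) := by
    rw [← hid]
    have hterm : ∀ l, π' l ≫ ι' l = (π' l ≫ scal L (glob p K c⁻¹) ≫ ι' i) ≫ pb g ≫ (π' j ≫ ι' l) := fun l => by
      have h3 : scal L (glob p K c⁻¹) ≫ ι' i ≫ pb g ≫ π' j = 𝟙 L := by
        rw [hsc, scal_comp_scal, ← map_mul, inv_mul_cancel₀ hc, map_one, scal_one]
      simp only [Category.assoc]
      rw [reassoc_of% h3]
    exact Finset.sum_induction _ P Padd Pzero fun l _ => by rw [hterm l]; exact Pmul _ _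
  -- descend
  obtain ⟨S, z, hz, hsum⟩ := hone
  have hd : (𝟙 M : M ⟶ M) = ∑ t ∈ (b.repr 1).support, pb (scal E (gbase p (b.repr 1 t))) ≫ scal M (glob p K (b t)) := by
    conv_lhs => rw [← scal_one M, ← map_one (glob p K), ← b.linearCombination_repr (1 : K),
      Finsupp.linearCombination_apply, Finsupp.sum, map_sum, scal_sum]
    exact Finset.sum_congr rfl fun t _ => hk _ _
  obtain ⟨t, ht'⟩ : (b.repr (1 : K)).support.Nonempty := Finsupp.support_nonempty_iff.2 (by simp)
  let z' : _ → (E ⟶ E) := z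
  let w : _ → (E ⟶ E) := fun t => (if t ∈ (b.repr 1).support then scal E (gbase p (b.repr 1 t)) else 0) -
    (if t ∈ S then z' t else 0)
  have hw : ∑ t ∈ (b.repr 1).support ∪ S, pb (w t) ≫ scal M (glob p K (b t)) = 0 := by
    have hsub : ∀ u v : E ⟶ E, pb (u - v) = pb u - pb v := fun u v => Functor.map_sub _
    simp only [w, hsub, Preadditive.sub_comp, Finset.sum_sub_distrib]
    rw [← Finset.sum_subset Finset.subset_union_left (fun t _ ht => by simp [ht, pb]),
      ← Finset.sum_subset Finset.subset_union_right (fun t _ ht => by simp [ht, pb]),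
      Finset.sum_congr (s₁ := (b.repr (1 : K)).support) (g := fun t => pb (scal E (gbase p (b.repr 1 t))) ≫ scal M (glob p K (b t)))
        rfl (fun t ht => by rw [if_pos ht]),
      Finset.sum_congr (s₁ := S) (g := fun t => pb (z t) ≫ scal M (glob p K (b t))) rfl (fun t ht => by rw [if_pos ht]),
      ← hd, ← hsum, sub_self]
  have h4 := eq_zero_of_sum _ _ hb _ _ hw t (Finset.mem_union_left _ ht')
  simp only [w, if_pos ht', sub_eq_zero] at h4
  have hmem : (scal E (gbase p (b.repr 1 t)) : End E) ∈ I := by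
    rw [h4]
    split_ifs
    exacts [hz t, I.zero_mem]
  obtain ⟨v, hv⟩ := (Ne.isUnit (Finsupp.mem_support_iff.1 ht')).map (gbase p)
  have h5 := I.mul_mem_left (scal E ↑v⁻¹ : End E) _ hmem
  rw [End.mul_def, scal_comp_scal, ← hv, v.mul_inv, scal_one] at h5
  exact h5

/-- The endomorphism ring of an isotypical bundle is simple (geometrically integral case). -/
theorem isSimpleRing_end [IsProper p] [GeometricallyIntegral p] [IsAlgClosed K]
    {E : X.Modules} (hE : Coh.IsCoh E) (hE0 : ¬ IsZero E) {L : (W4bk4gw11416.baseChange p K).Modules}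
    (hL : PicF.IsInvertible L) {r : ℕ} (e : bcMod p K E ≅ pow L r) : IsSimpleRing (End E) :=
  isSimpleRing_end_of_surjective p K (glob_surjective p K) hE hE0 hL e

end Groth.Misc12.NDeuring
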