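import Groth.Agent.Misc12.NDeuring.FieldHom
import Groth.Agent.Misc12.NDeuring.Embeddings
import Groth.Agent.OmegaSheaf.IsoLocal

/-! The direct image from a finite separable extension splits over a splitting field. -/

set_option autoImplicit false
set_option linter.style.haveILetI false
set_option backward.isDefEq.respectTransparency.types false

universe u

open CategoryTheory Limits AlgebraicGeometry TensorProduct W4c1astiltbs12 Groth.PicAux

namespace Groth.Misc12.NDeuring

variable {k : Type u} [Field k] {X : Scheme.{u}} (p : X ⟶ Spec (CommRingCat.of k))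
variable (L : Type u) [Field L] [Algebra k L] (K : Type u) [Field K] [Algebra k K]

theorem spec_comp (σ : L →ₐ[k] K) :
    Spec.map (CommRingCat.ofHom σ.toRingHom) ≫ Spec.map (CommRingCat.ofHom (algebraMap k L)) =
      Spec.map (CommRingCat.ofHom (algebraMap k K)) := by
  rw [← Spec.map_comp]
  congr 1
  ext a
  exact σ.commutes a

/-- The projection along an embedding. -/
noncomputable def embProj (σ : L →ₐ[k] K) :
    W4bk4gw11416.baseChange p K ⟶ W4bk4gw11416.baseChange p L :=
  pullback.lift (proj p K)
    (pullback.snd p (Spec.map (CommRingCat.ofHom (algebraMap k K))) ≫ Spec.map (CommRingCat.ofHom σ.toRingHom))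
    (by rw [Category.assoc, spec_comp, pullback.condition])

theorem embProj_proj (σ : L →ₐ[k] K) : embProj p L K σ ≫ proj p L = proj p K := pullback.lift_fst _ _ _

theorem appTop_glob (σ : L →ₐ[k] K) (x : L) :
    (embProj p L K σ).appTop (glob p L x) = glob p K (σ x) := by
  have hw := congrArg (fun t => t.appTop) (pullback.lift_snd (proj p K)
    (pullback.snd p (Spec.map (CommRingCat.ofHom (algebraMap k K))) ≫ Spec.map (CommRingCat.ofHom σ.toRingHom))
    (by rw [Category.assoc, spec_comp, pullback.condition]) :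
      embProj p L K σ ≫ pullback.snd p (Spec.map (CommRingCat.ofHom (algebraMap k L))) = _)
  simp only [Scheme.Hom.comp_appTop] at hw
  have h1 : (Scheme.ΓSpecIso (CommRingCat.of K)).inv (σ x) =
      (Spec.map (CommRingCat.ofHom σ.toRingHom)).appTop ((Scheme.ΓSpecIso (CommRingCat.of L)).inv x) :=
    ConcreteCategory.congr_hom (Scheme.ΓSpecIso_inv_naturality (CommRingCat.ofHom σ.toRingHom)) x
  show _ = (pullback.snd p (Spec.map (CommRingCat.ofHom (algebraMap k K)))).appTop
    ((Scheme.ΓSpecIso (CommRingCat.of K)).inv (σ x))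
  rw [h1]
  exact ConcreteCategory.congr_hom hw ((Scheme.ΓSpecIso (CommRingCat.of L)).inv x)

theorem preimage_le (σ : L →ₐ[k] K) (W : X.Opens) :
    proj p K ⁻¹ᵁ W ≤ embProj p L K σ ⁻¹ᵁ (proj p L ⁻¹ᵁ W) := by
  rw [← Scheme.Hom.comp_preimage, embProj_proj]

theorem resX_app {Z Y : Scheme.{u}} (f : Z ⟶ Y) {U U' : Y.Opens} (h : U' ≤ U) (r : Γ(Y, U)) :
    f.app U' (resX Y h r) = resX Z (f.preimage_mono h) (f.app U r) :=
  ConcreteCategory.congr_hom (f.naturality (homOfLE h).op) r

theorem appLE_proj (σ : L →ₐ[k] K) (W : X.Opens) (r : Γ(X, W)) :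
    resX _ (preimage_le p L K σ W) ((embProj p L K σ).app _ ((proj p L).app W r)) = (proj p K).app W r := by
  show (embProj p L K σ).appLE _ _ (preimage_le p L K σ W) ((proj p L).app W r) = _
  have h := embProj_proj p L K σ
  have h2 := Scheme.Hom.appLE_comp_appLE (embProj p L K σ) (proj p L) W (proj p L ⁻¹ᵁ W)
    (proj p K ⁻¹ᵁ W) le_rfl (preimage_le p L K σ W)
  rw [Scheme.Hom.appLE_eq_app] at h2
  refine (ConcreteCategory.congr_hom h2 r).trans ?_
  have : ∀ (f : W4bk4gw11416.baseChange p K ⟶ X) (e : proj p K ⁻¹ᵁ W ≤ f ⁻¹ᵁ W), f = proj p K →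
      f.appLE W (proj p K ⁻¹ᵁ W) e r = (proj p K).app W r := by
    rintro f e rfl
    rw [Scheme.Hom.appLE_eq_app]
  exact this _ _ h

theorem appLE_glob (σ : L →ₐ[k] K) (W : X.Opens) (x : L) :
    resX _ (preimage_le p L K σ W) ((embProj p L K σ).app _ (resX _ (le_top : proj p L ⁻¹ᵁ W ≤ ⊤) (glob p L x))) =
      resX _ (le_top : proj p K ⁻¹ᵁ W ≤ ⊤) (glob p K (σ x)) := by
  rw [resX_app, resX_resX, ← appTop_glob]
  rfl

variable (V : (W4bk4gw11416.baseChange p L).Modules)

/-- The direct image on the base. -/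
noncomputable abbrev down : X.Modules := (Coh.push (proj p L)).obj V

theorem exists_comparison (σ : L →ₐ[k] K) :
    ∃ c : bcMod p K (down p L V) ⟶ (Scheme.Modules.pullback (embProj p L K σ)).obj V,
      ∀ (W : X.Opens), IsAffineOpen W → ∀ m : Γ(V, proj p L ⁻¹ᵁ W),
        c.app (proj p K ⁻¹ᵁ W) (pullSec (proj p K) (down p L V) m) =
          res _ (preimage_le p L K σ W) (pullSec (embProj p L K σ) V m) := by
  let π := proj p K
  let T := (Scheme.Modules.pullback (embProj p L K σ)).obj V
  obtain ⟨g, hg⟩ := Groth.LocFree.exists_hom_of_affine (L := down p L V) (M := (Coh.push π).obj T)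
    (fun W _ =>
      { toFun := fun m => res T (preimage_le p L K σ W) (pullSec (embProj p L K σ) V (U := proj p L ⁻¹ᵁ W) m)
        map_add' := fun x y => by
          show res T _ (pullSec (embProj p L K σ) V (U := proj p L ⁻¹ᵁ W) (x + y)) = _
          rw [show pullSec (embProj p L K σ) V (U := proj p L ⁻¹ᵁ W) (x + y) =
            pullSec (embProj p L K σ) V (U := proj p L ⁻¹ᵁ W) x +
              pullSec (embProj p L K σ) V (U := proj p L ⁻¹ᵁ W) y from map_add _ _ _, res_add]
          rfl
        map_smul' := fun r (x : Γ(V, proj p L ⁻¹ᵁ W)) => by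
          show res T (preimage_le p L K σ W) (pullSec (embProj p L K σ) V (U := proj p L ⁻¹ᵁ W) ((proj p L).app W r • x)) =
            (proj p K).app W r • res T (preimage_le p L K σ W) (pullSec (embProj p L K σ) V (U := proj p L ⁻¹ᵁ W) x)
          rw [pullSec_smul, res_smul, appLE_proj] })
    (fun W W' _ _ h m => by
      show res T ((proj p K).preimage_mono h) (res T _ (pullSec (embProj p L K σ) V (U := proj p L ⁻¹ᵁ W) m)) =
        res T _ (pullSec (embProj p L K σ) V (U := proj p L ⁻¹ᵁ W') (res V ((proj p L).preimage_mono h) m))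
      rw [res_res, ← res_pullSec, res_res])
  refine ⟨((Scheme.Modules.pullbackPushforwardAdjunction π).homEquiv _ _).symm g, fun W hW m => ?_⟩
  have h := ((Scheme.Modules.pullbackPushforwardAdjunction π).homEquiv _ _).apply_symm_apply g
  rw [Adjunction.homEquiv_unit] at h
  exact (congr(($h).app W m) : _).trans (hg W hW m)

variable [FiniteDimensional k L] [Algebra.IsSeparable k L]

set_option maxHeartbeats 1600000 in
/-- The splitting. -/
theorem nonempty_split (hsplit : ∀ x : L, ((minpoly k x).map (algebraMap k K)).Splits) [V.IsQuasicoherent]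
    {N : (W4bk4gw11416.baseChange p K).Modules}
    (hN : ∀ σ : L →ₐ[k] K, Nonempty ((Scheme.Modules.pullback (embProj p L K σ)).obj V ≅ N)) :
    Nonempty (bcMod p K (down p L V) ≅ pow N (Fintype.card (L →ₐ[k] K))) := by
  classical
  let π := proj p K
  let q := proj p L
  haveI : IsAffineHom π := MorphismProperty.pullback_fst _ _ inferInstance
  haveI : IsAffineHom q := MorphismProperty.pullback_fst _ _ inferInstance
  let β := Module.finBasis k L
  obtain ⟨C, hC1, -, hC3, hC4⟩ := exists_dual_coeff L K hsplit β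
  let T : (L →ₐ[k] K) → (W4bk4gw11416.baseChange p K).Modules := fun σ =>
    (Scheme.Modules.pullback (embProj p L K σ)).obj V
  choose c hc using exists_comparison p L K V
  let D := Fin (Fintype.card (L →ₐ[k] K))
  let eD : D ≃ (L →ₐ[k] K) := (Fintype.equivFin _).symm
  let π' : ∀ d : D, (∐ fun d => T (eD d)) ⟶ T (eD d) := fun d =>
    Sigma.desc fun l => if hl : l = d then eqToHom (congrArg (fun d => T (eD d)) hl) else 0
  let Φ : bcMod p K (down p L V) ⟶ ∐ fun d => T (eD d) :=
    ∑ d : D, c (eD d) ≫ Sigma.ι (fun d => T (eD d)) d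
  have hΦ : ∀ d, Φ ≫ π' d = c (eD d) := fun d => by
    rw [Preadditive.sum_comp, Finset.sum_eq_single d]
    · simp [π']; exact Category.comp_id _
    · intro i _ hi; simp [π', hi]
    · exact fun h => absurd (Finset.mem_univ d) h
  haveI : (down p L V).IsQuasicoherent := Groth.QCohMod.isQCoh_pushforward (M := V) q
  haveI : (bcMod p K (down p L V)).IsQuasicoherent := Groth.QCohMod.isQCoh_pullback_obj _ _
  haveI : IsIso Φ := by
    haveI : (∐ fun d => T (eD d)).IsQuasicoherent := by
      have : ∀ j, ((Discrete.functor fun d => T (eD d)).obj j).IsQuasicoherent := fun j =>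
        Groth.QCohMod.isQCoh_pullback_obj _ V
      exact Groth.QCohMod.isQCoh_of_isColimit _ _ (colimit.isColimit (Discrete.functor fun d => T (eD d)))
    refine Groth.QCohMod.isIso_of_affine_bijective _ fun U hU => ?_
    -- reduce to preimages of affine opens of the base
    suffices h : ∀ W : X.Opens, IsAffineOpen W → Function.Bijective (Φ.app (π ⁻¹ᵁ W)) by
      haveI : IsIso Φ := Groth.OmegaSheaf.isIso_of_affine_cover Φ fun z => by
        obtain ⟨W, hW, hzW⟩ := Groth.QCohMod.exists_affine_mem (π.base z)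
        exact ⟨π ⁻¹ᵁ W, hW.preimage π, hzW, h W hW⟩
      exact ConcreteCategory.bijective_of_isIso (Φ.app U)
    intro W hW
    let U₀ := π ⁻¹ᵁ W
    let UL := q ⁻¹ᵁ W
    let φ : K →+* Γ(W4bk4gw11416.baseChange p K, U₀) := (resX _ (le_top : U₀ ≤ ⊤)).comp (glob p K)
    let ψ : L →+* Γ(W4bk4gw11416.baseChange p L, UL) := (resX _ (le_top : UL ≤ ⊤)).comp (glob p L)
    let P : Γ(down p L V, W) → Γ(bcMod p K (down p L V), U₀) := pullSec π (down p L V)
    have hPadd : ∀ m m', P (m + m') = P m + P m' := fun m m' => map_add _ _ _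
    have hlin : ∀ (x : L) (m : Γ(V, UL)),
        P (ψ x • m) = ∑ l, φ (algebraMap k K (β.repr x l)) • P (ψ (β l) • m) := fun x m => by
      conv_lhs => rw [← β.sum_repr x]
      rw [map_sum, Finset.sum_smul]
      have hs : ∀ (S : Finset (Fin (Module.finrank k L))) (f : Fin (Module.finrank k L) → Γ(down p L V, W)),
          P (∑ l ∈ S, f l) = ∑ l ∈ S, P (f l) := fun S f =>
        map_sum (AddMonoidHom.mk' P hPadd) f S
      refine (hs _ _).trans (Finset.sum_congr rfl fun l _ => ?_)
      have e1 : ψ (β.repr x l • β l) • m = q.app W (resX X le_top (gbase p (β.repr x l))) • (ψ (β l) • m) := by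
        rw [Algebra.smul_def, map_mul, mul_smul]
        congr 1
        show resX _ (le_top : UL ≤ ⊤) (glob p L (algebraMap k L (β.repr x l))) = _
        rw [glob_algebraMap, resX_app]
        rfl
      rw [e1]
      refine (pullSec_smul π (down p L V) (resX X le_top (gbase p (β.repr x l))) (ψ (β l) • m)).trans ?_
      congr 1
      show _ = resX _ (le_top : U₀ ≤ ⊤) (glob p K (algebraMap k K (β.repr x l)))
      rw [glob_algebraMap, resX_app]
      rfl
    let f : (L →ₐ[k] K) → Γ(W4bk4gw11416.baseChange p K, U₀) → Γ(V, UL) → Γ(bcMod p K (down p L V), U₀) :=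
      fun σ a n => ∑ i, (φ (C σ i) * a) • P (ψ (β i) • n)
    have fadd1 : ∀ σ a a' n, f σ (a + a') n = f σ a n + f σ a' n := fun σ a a' n => by
      simp only [f, mul_add, add_smul, Finset.sum_add_distrib]
    have fadd2 : ∀ σ a n n', f σ a (n + n') = f σ a n + f σ a n' := fun σ a n n' => by
      have : ∀ i, P (ψ (β i) • (n + n')) = P (ψ (β i) • n) + P (ψ (β i) • n') := fun i => by
        rw [smul_add]; exact hPadd _ _
      simp only [f, this]
      simp only [smul_add, Finset.sum_add_distrib]
    have fzero : ∀ σ n, f σ 0 n = 0 := fun σ n => by simp [f]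
    have hB := isFreeBasis_glob p L (β.reindex Equiv.ulift.{u}.symm)
    have hcomb : ∀ t : Γ(W4bk4gw11416.baseChange p L, UL),
        ∃ a : ULift.{u} (Fin (Module.finrank k L)) →₀ Γ(X, W),
        a.sum (fun i r => q.app W r * ψ (β i.down)) = t := fun t => by
      obtain ⟨a, ha⟩ := (hB W hW).2 t
      refine ⟨a, Eq.trans (Finsupp.sum_congr fun i _ => ?_) ha⟩
      simp only [Module.Basis.reindex_apply]
      rfl
    let el : ∀ σ : L →ₐ[k] K, U₀ ≤ embProj p L K σ ⁻¹ᵁ UL := fun σ => preimage_le p L K σ W
    let al : ∀ σ : L →ₐ[k] K, Γ(W4bk4gw11416.baseChange p L, UL) →+* Γ(W4bk4gw11416.baseChange p K, U₀) :=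
      fun σ => ((embProj p L K σ).appLE UL U₀ (el σ)).hom
    have alq : ∀ σ r, al σ (q.app W r) = π.app W r := fun σ r => appLE_proj p L K σ W r
    have alψ : ∀ σ x, al σ (ψ x) = φ (σ x) := fun σ x => appLE_glob p L K σ W x
    have fbal : ∀ σ (t : Γ(W4bk4gw11416.baseChange p L, UL)) a n, f σ (al σ t * a) n = f σ a (t • n) := by
      intro σ t a n
      obtain ⟨co, rfl⟩ := hcomb t
      induction co using Finsupp.induction_linear with
      | zero =>
        rw [Finsupp.sum_zero_index, map_zero, zero_mul, fzero, zero_smul]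
        have h := fadd2 σ a 0 0
        rw [add_zero] at h
        exact (left_eq_add.1 h).symm
      | add x y hx hy =>
        rw [Finsupp.sum_add_index' (fun i => by rw [map_zero, zero_mul])
          (fun i r r' => by rw [map_add, add_mul]), map_add, add_mul, fadd1, hx, hy, add_smul, fadd2]
      | single j r =>
        obtain ⟨j⟩ := j
        rw [Finsupp.sum_single_index (by rw [map_zero, zero_mul]), map_mul, alq, alψ]
        show ∑ i, (φ (C σ i) * (π.app W r * φ (σ (β j)) * a)) • P (ψ (β i) • n) =
          ∑ i, (φ (C σ i) * a) • P (ψ (β i) • ((q.app W r * ψ (β j)) • n))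
        have e1 : ∀ i, P (ψ (β i) • ((q.app W r * ψ (β j)) • n)) = π.app W r • P (ψ (β i * β j) • n) := fun i => by
          rw [← mul_smul, show ψ (β i) * (q.app W r * ψ (β j)) = q.app W r * ψ (β i * β j) by
            rw [map_mul]; ring, mul_smul]
          exact pullSec_smul π (down p L V) r (ψ (β i * β j) • n)
        refine Eq.trans ?_ (Finset.sum_congr rfl fun i _ => (congrArg (fun z => (φ (C σ i) * a) • z)
          ((e1 i).trans (congrArg (π.app W r • ·) (hlin (β i * β j) n)))).symm)
        simp only [Finset.smul_sum, ← mul_smul]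
        rw [Finset.sum_comm]
        refine Finset.sum_congr rfl fun l _ => ?_
        rw [← Finset.sum_smul]
        congr 1
        calc φ (C σ l) * (π.app W r * φ (σ (β j)) * a)
            = φ (σ (β j) * C σ l) * (π.app W r * a) := by rw [map_mul]; ring
          _ = φ (∑ i, C σ i * algebraMap k K (β.repr (β i * β j) l)) * (π.app W r * a) := by rw [hC3]
          _ = _ := by
            rw [map_sum, Finset.sum_mul]
            exact Finset.sum_congr rfl fun i _ => by rw [map_mul]; ring
    have hcσ : ∀ τ (a : Γ(W4bk4gw11416.baseChange p K, U₀)) (m : Γ(V, UL)),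
        (c τ).app U₀ (a • P m) = a • res (T τ) (el τ) (pullSec (embProj p L K τ) V m) := fun τ a m => by
      rw [Scheme.Modules.Hom.app_smul]
      congr 1
      exact hc τ W hW m
    have hψsmul : ∀ τ (x : L) (n : Γ(V, UL)), res (T τ) (el τ) (pullSec (embProj p L K τ) V (ψ x • n)) =
        φ (τ x) • res (T τ) (el τ) (pullSec (embProj p L K τ) V n) := fun τ x n => by
      rw [pullSec_smul, res_smul, ← alψ]
      rfl
    have hf : ∀ σ τ a n, (c τ).app U₀ (f σ a n) =
        if σ = τ then a • res (T τ) (el τ) (pullSec (embProj p L K τ) V n) else 0 := fun σ τ a n => by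
      simp only [f, map_sum, hcσ, hψsmul, ← mul_smul]
      rw [← Finset.sum_smul, show ∑ i, φ (C σ i) * a * φ (τ (β i)) = φ (∑ i, C σ i * τ (β i)) * a by
        rw [map_sum, Finset.sum_mul]; exact Finset.sum_congr rfl fun i _ => by rw [map_mul]; ring, hC1]
      split_ifs with h
      · rw [map_one, one_mul]
      · rw [map_zero, zero_mul, zero_smul]
    have hsum : ∀ a n, ∑ σ, f σ a n = a • P n := fun a n => by
      have h1 : P n = ∑ i, φ (algebraMap k K (β.repr 1 i)) • P (ψ (β i) • n) := by
        rw [← hlin, map_one, one_smul]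
      simp only [f]
      rw [Finset.sum_comm, h1, Finset.smul_sum]
      refine Finset.sum_congr rfl fun i _ => ?_
      rw [← Finset.sum_smul, ← Finset.sum_mul, ← map_sum, hC4, ← mul_smul, mul_comm]
    -- lifts through the tensor description
    have hex : ∀ σ, ∃ Ψ : Γ(T σ, U₀) →+ Γ(bcMod p K (down p L V), U₀),
        (∀ a n, Ψ (a • res (T σ) (el σ) (pullSec (embProj p L K σ) V n)) = f σ a n) ∧
        ∀ z, ∃ y, (c σ).app U₀ y = z ∧ ∀ τ, σ ≠ τ → (c τ).app U₀ y = 0 := by
      intro σ
      letI := Groth.QCohMod.sectionsAlg (embProj p L K σ) (el σ)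
      let E := Groth.QCohMod.pullSecEquiv (embProj p L K σ) V (el σ) (hW.preimage q) (hW.preimage π)
      let F : Γ(W4bk4gw11416.baseChange p K, U₀) →+ Γ(V, UL) →+ Γ(bcMod p K (down p L V), U₀) :=
        AddMonoidHom.mk' (fun a => AddMonoidHom.mk' (f σ a) (fadd2 σ a))
          (fun a a' => AddMonoidHom.ext fun n => fadd1 σ a a' n)
      let G := TensorProduct.liftAddHom (R := Γ(W4bk4gw11416.baseChange p L, UL)) F
        (fun t a n => fbal σ t a n)
      refine ⟨G.comp E.symm.toAddMonoidHom, fun a n => ?_, fun z => ?_⟩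
      · show G (E.symm _) = _
        rw [show a • res (T σ) (el σ) (pullSec (embProj p L K σ) V n) = E (a ⊗ₜ n) from rfl,
          LinearEquiv.symm_apply_apply]
        rfl
      · obtain ⟨t, rfl⟩ := E.surjective z
        induction t using TensorProduct.induction_on with
        | zero => exact ⟨0, by rw [map_zero, map_zero], fun τ _ => map_zero _⟩
        | tmul a n =>
          exact ⟨f σ a n, by rw [hf, if_pos rfl]; rfl, fun τ hτ => by rw [hf, if_neg hτ]⟩
        | add x y hx hy =>
          obtain ⟨u, hu, hu'⟩ := hx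
          obtain ⟨v, hv, hv'⟩ := hy
          exact ⟨u + v, by rw [map_add, map_add, hu, hv], fun τ hτ => by rw [map_add, hu' τ hτ, hv' τ hτ, add_zero]⟩
    choose Ψ hΨ hsurj using hex
    have hleft : ∀ y, ∑ σ, Ψ σ ((c σ).app U₀ y) = y := by
      intro y
      letI := Groth.QCohMod.sectionsAlg π (le_refl U₀)
      obtain ⟨t, rfl⟩ :=
        (Groth.QCohMod.pullSecEquiv π (down p L V) (le_refl U₀) hW (hW.preimage π)).surjective y
      induction t using TensorProduct.induction_on with
      | zero =>
        have e0 : Groth.QCohMod.pullSecEquiv π (down p L V) (le_refl U₀) hW (hW.preimage π) 0 = 0 := map_zero _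
        rw [e0]
        exact Finset.sum_eq_zero fun σ _ => by rw [map_zero, map_zero]
      | tmul a n =>
        have e1 : Groth.QCohMod.pullSecEquiv π (down p L V) (le_refl U₀) hW (hW.preimage π) (a ⊗ₜ n) = a • P n := by
          show a • res _ (le_refl U₀) (P n) = _
          rw [res_self]
        rw [e1]
        simp only [hcσ, hΨ]
        exact hsum a n
      | add x y hx hy => simp only [map_add, Finset.sum_add_distrib, hx, hy]
    -- coordinates
    have hid : ∑ d, π' d ≫ Sigma.ι (fun d => T (eD d)) d = 𝟙 _ := by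
      refine Sigma.hom_ext _ _ fun l => ?_
      rw [Preadditive.comp_sum, Category.comp_id, Finset.sum_eq_single l]
      · simp [π']
      · intro i _ hi; simp [π', Ne.symm hi]
      · exact fun h => absurd (Finset.mem_univ l) h
    have hcoord : ∀ y d, (π' d).app U₀ (Φ.app U₀ y) = (c (eD d)).app U₀ y := fun y d =>
      congr(($(hΦ d)).app U₀ y)
    refine ⟨fun y y' h => ?_, fun z => ?_⟩
    · rw [← hleft y, ← hleft y']
      refine Finset.sum_congr rfl fun σ _ => congrArg (Ψ σ) ?_
      have := congrArg ((π' (eD.symm σ)).app U₀) h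
      rw [hcoord, hcoord] at this
      obtain ⟨d, rfl⟩ := eD.surjective σ
      rw [eD.symm_apply_apply] at this
      exact this
    · choose y hy hy' using fun d => hsurj (eD d) ((π' d).app U₀ z)
      refine ⟨∑ d, y d, ?_⟩
      have hrec : ∀ w, w = ∑ d, (Sigma.ι (fun d => T (eD d)) d).app U₀ ((π' d).app U₀ w) := fun w => by
        have h := sum_app Finset.univ (fun d => π' d ≫ Sigma.ι (fun d => T (eD d)) d) U₀ w
        rw [hid] at h
        exact h
      rw [hrec z, hrec (Φ.app U₀ _)]
      refine Finset.sum_congr rfl fun d _ => congrArg _ ?_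
      rw [hcoord, map_sum, Finset.sum_eq_single d (fun d' _ hd => hy' d' _ (fun h => hd (eD.injective h)))
        (fun h => absurd (Finset.mem_univ d) h), hy]
  exact ⟨asIso Φ ≪≫ Sigma.whiskerEquiv (f := fun d => T (eD d)) (g := fun _ : D => N) (Equiv.refl _)
    (fun d => (hN (eD d)).some.symm)⟩

end Groth.Misc12.NDeuring
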