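import Groth.Agent.Misc12.NDeuring.Push
import Groth.Agent.LocFree.AffineHom
import Groth.Agent.KTheory.ExtFiltSheaf
import Groth.Agent.PicAux.GenLocusAffine

/-! Homomorphisms of inverse images along an affine morphism with free algebra. -/

set_option autoImplicit false
set_option linter.style.haveILetI false
set_option backward.isDefEq.respectTransparency.types false

universe u

open CategoryTheory Limits AlgebraicGeometry TopologicalSpace TensorProduct Groth.PicAux

namespace Groth.Misc12.NDeuring

variable {X Z : Scheme.{u}} (q : Z ⟶ X) {ι : Type u} (b : ι → Γ(Z, ⊤))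

/-- The global functions `b` form a basis over every affine open. -/
def IsFreeBasis : Prop :=
  ∀ W : X.Opens, IsAffineOpen W → Function.Bijective fun c : ι →₀ Γ(X, W) =>
    c.sum fun i r => q.app W r * resX Z (le_top : q ⁻¹ᵁ W ≤ ⊤) (b i)

/-- The section attached to a family of coefficients. -/
noncomputable def combo (G : X.Modules) (W : X.Opens) (c : ι →₀ Γ(G, W)) :
    Γ((Scheme.Modules.pullback q).obj G, q ⁻¹ᵁ W) :=
  c.sum fun i g => resX Z (le_top : q ⁻¹ᵁ W ≤ ⊤) (b i) • pullSec q G g

theorem combo_term_zero (G : X.Modules) (W : X.Opens) (i : ι) :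
    resX Z (le_top : q ⁻¹ᵁ W ≤ ⊤) (b i) • pullSec q G (0 : Γ(G, W)) = 0 := by
  rw [show pullSec q G (0 : Γ(G, W)) = 0 from map_zero _, smul_zero]

theorem combo_single (G : X.Modules) (W : X.Opens) (i : ι) (g : Γ(G, W)) :
    combo q b G W (Finsupp.single i g) = resX Z (le_top : q ⁻¹ᵁ W ≤ ⊤) (b i) • pullSec q G g :=
  Finsupp.sum_single_index (combo_term_zero q b G W i)

theorem combo_add (G : X.Modules) (W : X.Opens) (c d : ι →₀ Γ(G, W)) :
    combo q b G W (c + d) = combo q b G W c + combo q b G W d :=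
  Finsupp.sum_add_index' (combo_term_zero q b G W) fun i x y => by
    rw [show pullSec q G (x + y) = pullSec q G x + pullSec q G y from map_add _ _ _, smul_add]

theorem combo_zero (G : X.Modules) (W : X.Opens) : combo q b G W 0 = 0 := Finsupp.sum_zero_index

theorem combo_smul (G : X.Modules) (W : X.Opens) (r : Γ(X, W)) (c : ι →₀ Γ(G, W)) :
    combo q b G W (r • c) = q.app W r • combo q b G W c := by
  induction c using Finsupp.induction_linear with
  | zero => rw [smul_zero, combo_zero, smul_zero]
  | add c d hc hd => rw [smul_add, combo_add, combo_add, hc, hd, smul_add]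
  | single i g => rw [Finsupp.smul_single, combo_single, combo_single, pullSec_smul, smul_comm]

theorem res_combo (G : X.Modules) {W V : X.Opens} (h : V ≤ W) (c : ι →₀ Γ(G, W)) :
    res _ (q.preimage_mono h) (combo q b G W c) =
      combo q b G V (c.mapRange (res G h) (res_zero h)) := by
  induction c using Finsupp.induction_linear with
  | zero => rw [combo_zero, res_zero, Finsupp.mapRange_zero, combo_zero]
  | add c d hc hd =>
    rw [combo_add, res_add, Finsupp.mapRange_add (hf := res_zero h) (fun x y => res_add h x y),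
      combo_add, hc, hd]
  | single i g =>
    rw [combo_single, Finsupp.mapRange_single, combo_single, res_smul, resX_resX, res_pullSec]

theorem bijective_combo [IsAffineHom q] (hb : IsFreeBasis q b) (G : X.Modules) [G.IsQuasicoherent]
    {W : X.Opens} (hW : IsAffineOpen W) : Function.Bijective (combo q b G W) := by
  classical
  let e : q ⁻¹ᵁ W ≤ q ⁻¹ᵁ W := le_rfl
  letI := Groth.QCohMod.sectionsAlg q e
  have halg : ∀ r : Γ(X, W), algebraMap Γ(X, W) Γ(Z, q ⁻¹ᵁ W) r = q.app W r := fun r => by
    show q.appLE W (q ⁻¹ᵁ W) e r = _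
    rw [Scheme.Hom.appLE_eq_app]
  let β : (ι →₀ Γ(X, W)) →ₗ[Γ(X, W)] Γ(Z, q ⁻¹ᵁ W) :=
    Finsupp.linearCombination Γ(X, W) fun i => resX Z (le_top : q ⁻¹ᵁ W ≤ ⊤) (b i)
  have hβ : Function.Bijective β := by
    convert hb W hW using 1
    funext c
    simp only [β, Finsupp.linearCombination_apply, Algebra.smul_def, halg]
  let B : Module.Basis ι Γ(X, W) Γ(Z, q ⁻¹ᵁ W) := Module.Basis.ofRepr (LinearEquiv.ofBijective β hβ).symm
  have hB : ∀ i, B i = resX Z (le_top : q ⁻¹ᵁ W ≤ ⊤) (b i) := fun i => by simp [B, β]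
  let E := Groth.QCohMod.pullSecEquiv q G e hW (hW.preimage q)
  have hEq : combo q b G W = fun c => E ((TensorProduct.equivFinsuppOfBasisLeft B).symm c) := by
    funext c
    rw [TensorProduct.equivFinsuppOfBasisLeft_symm_apply, map_finsuppSum]
    refine Finsupp.sum_congr fun i _ => ?_
    show _ = B i • res _ e (pullSec q G (c i))
    rw [hB, res_self]
  rw [hEq]
  exact E.bijective.comp (TensorProduct.equivFinsuppOfBasisLeft B).symm.bijective

variable {F G : X.Modules}

theorem sum_map_app (S : Finset ι) (g : ι → (F ⟶ G)) (W : X.Opens) (x : Γ(F, W)) :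
    (∑ i ∈ S, (Scheme.Modules.pullback q).map (g i) ≫ scal _ (b i)).app (q ⁻¹ᵁ W) (pullSec q F x) =
      combo q b G W (∑ i ∈ S, Finsupp.single i ((g i).app W x)) := by
  classical
  rw [sum_app]
  induction S using Finset.induction_on with
  | empty => rw [Finset.sum_empty, Finset.sum_empty, combo_zero]
  | insert a S ha ih =>
    rw [Finset.sum_insert ha, Finset.sum_insert ha, ih, combo_add, combo_single]
    congr 1
    show resX Z (le_top : q ⁻¹ᵁ W ≤ ⊤) (b a) •
      ((Scheme.Modules.pullback q).map (g a)).app (q ⁻¹ᵁ W) (pullSec q F x) = _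
    rw [pullSec_map]

/-- Independence. -/
theorem eq_zero_of_sum [IsAffineHom q] (hb : IsFreeBasis q b) [G.IsQuasicoherent] (S : Finset ι)
    (g : ι → (F ⟶ G)) (h : ∑ i ∈ S, (Scheme.Modules.pullback q).map (g i) ≫ scal _ (b i) = 0) :
    ∀ i ∈ S, g i = 0 := by
  classical
  intro i hi
  refine Groth.KTheory.ExtFilt.hom_ext_affine fun W hW x => ?_
  have h1 := sum_map_app q b S g W x
  rw [h] at h1
  have h2 := (bijective_combo q b hb G hW).1 (h1.symm.trans (combo_zero q b G W).symm)
  have h3 := DFunLike.congr_fun h2 i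
  rw [Finsupp.finsetSum_apply, Finset.sum_eq_single i (fun j _ hj => Finsupp.single_eq_of_ne' hj)
    (fun hh => absurd hi hh), Finsupp.single_eq_same] at h3
  exact h3

/-- Spanning. -/
theorem exists_eq_sum [IsAffineHom q] (hb : IsFreeBasis q b) [CompactSpace X] [F.IsQuasicoherent]
    (hF : CohB1.IsFT F) [G.IsQuasicoherent]
    (h : (Scheme.Modules.pullback q).obj F ⟶ (Scheme.Modules.pullback q).obj G) :
    ∃ (S : Finset ι) (g : ι → (F ⟶ G)),
      h = ∑ i ∈ S, (Scheme.Modules.pullback q).map (g i) ≫ scal _ (b i) := by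
  classical
  have hex : ∀ (W : X.Opens) (_ : IsAffineOpen W) (x : Γ(F, W)), ∃ c, combo q b G W c =
      h.app (q ⁻¹ᵁ W) (pullSec q F x) := fun W hW x => (bijective_combo q b hb G hW).2 _
  choose coef hcoef using hex
  let lin : ∀ (i : ι) (W : X.Opens), IsAffineOpen W → (Γ(F, W) →ₗ[Γ(X, W)] Γ(G, W)) := fun i W hW =>
    { toFun := fun x => coef W hW x i
      map_add' := fun x y => by
        rw [← Finsupp.add_apply]
        refine DFunLike.congr_fun ((bijective_combo q b hb G hW).1 ?_) i
        rw [combo_add, hcoef, hcoef, hcoef, show pullSec q F (x + y) = pullSec q F x + pullSec q F y from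
          map_add _ _ _, map_add]
      map_smul' := fun r x => by
        rw [RingHom.id_apply, ← Finsupp.smul_apply]
        refine DFunLike.congr_fun ((bijective_combo q b hb G hW).1 ?_) i
        rw [combo_smul, hcoef, hcoef, pullSec_smul, Scheme.Modules.Hom.app_smul] }
  have hcompat : ∀ (i : ι) W V (hW : IsAffineOpen W) (hV : IsAffineOpen V) (hle : V ≤ W) x,
      res G hle (lin i W hW x) = lin i V hV (res F hle x) := fun i W V hW hV hle x => by
    show res G hle (coef W hW x i) = coef V hV (res F hle x) i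
    rw [← Finsupp.mapRange_apply (f := res G hle) (hf := res_zero hle)]
    refine DFunLike.congr_fun ((bijective_combo q b hb G hV).1 ?_) i
    rw [← res_combo, hcoef, hcoef, ← app_res, res_pullSec]
  choose g hg using fun i => Groth.LocFree.exists_hom_of_affine (lin i) (hcompat i)
  choose U hU hxU using fun x : X => Groth.QCohMod.exists_affine_mem x
  obtain ⟨T, hT⟩ := isCompact_univ.elim_finite_subcover (fun x => (U x : Set X))
    (fun x => (U x).2) fun x _ => Set.mem_iUnion.2 ⟨x, hxU x⟩
  choose gens hgens using fun x => (Groth.QCohMod.finite_sections F hF (hU x)).fg_top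
  let S : Finset ι := T.biUnion fun x => (gens x).biUnion fun y => (coef (U x) (hU x) y).support
  have hvan : ∀ i ∉ S, g i = 0 := by
    intro i hi
    have hU0 : ∀ x ∈ T, ∀ y : Γ(F, U x), (g i).app (U x) y = 0 := fun x hx y => by
      rw [hg i (U x) (hU x)]
      have hy : y ∈ Submodule.span Γ(X, U x) (gens x : Set Γ(F, U x)) := hgens x ▸ Submodule.mem_top
      induction hy using Submodule.span_induction with
      | mem z hz =>
        exact Finsupp.notMem_support_iff.1 fun hh =>
          hi (Finset.mem_biUnion.2 ⟨x, hx, Finset.mem_biUnion.2 ⟨z, hz, hh⟩⟩)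
      | zero => exact map_zero _
      | add z w _ _ hz hw => rw [map_add, hz, hw, add_zero]
      | smul r z _ hz => rw [map_smul, hz, smul_zero]
    refine Groth.KTheory.ExtFilt.hom_ext_affine fun W hW y => ?_
    show (g i).app W y = 0
    have hloc : ∀ z : W, ∃ D : X.Opens, z.1 ∈ D ∧ ∃ hD : D ≤ W, res G hD ((g i).app W y) = 0 := by
      intro z
      obtain ⟨x, hx, hzx⟩ := Set.mem_iUnion₂.1 (hT (Set.mem_univ z.1))
      obtain ⟨f, hf, hzf⟩ := (hU x).exists_basicOpen_le (V := W) ⟨z.1, z.2⟩ hzx
      refine ⟨X.basicOpen f, hzf, hf, ?_⟩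
      obtain ⟨n, t, ht⟩ := Groth.QCohMod.exists_pow_smul_eq_res F (hU x) f (res F hf y)
      have ht' : res F (X.basicOpen_le f) t = resX X (X.basicOpen_le f) f ^ n • res F hf y := ht
      have h0 := congrArg ((g i).app (X.basicOpen f)) ht'
      rw [app_res, hU0 x hx t, res_zero, Scheme.Modules.Hom.app_smul, app_res] at h0
      have hu : IsUnit (resX X (X.basicOpen_le f) f ^ n) := IsUnit.pow n (RingedSpace.isUnit_res_basicOpen _ f)
      exact hu.smul_eq_zero.1 h0.symm
    choose D hzD hD hD0 using hloc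
    exact res_ext (M := G) D hD (fun z hz => Opens.mem_iSup.2 ⟨⟨z, hz⟩, hzD ⟨z, hz⟩⟩)
      fun z => by rw [hD0, res_zero]
  refine ⟨S, g, ((Scheme.Modules.pullbackPushforwardAdjunction q).homEquiv _ _).injective
    (Groth.KTheory.ExtFilt.hom_ext_affine fun W hW x => ?_)⟩
  rw [Adjunction.homEquiv_unit, Adjunction.homEquiv_unit]
  show h.app (q ⁻¹ᵁ W) (pullSec q F x) =
    (∑ i ∈ S, (Scheme.Modules.pullback q).map (g i) ≫ scal _ (b i)).app (q ⁻¹ᵁ W) (pullSec q F x)
  rw [sum_map_app, ← hcoef W hW]
  congr 1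
  refine Finsupp.ext fun j => ?_
  rw [Finsupp.finsetSum_apply]
  by_cases hj : j ∈ S
  · rw [Finset.sum_eq_single j (fun i _ hi => Finsupp.single_eq_of_ne' hi) (fun hh => absurd hj hh),
      Finsupp.single_eq_same, hg j W hW]
    rfl
  · rw [Finset.sum_eq_zero fun i hi => Finsupp.single_eq_of_ne' (show i ≠ j from fun hij => hj (hij ▸ hi))]
    have h5 := hg j W hW x
    rw [hvan j hj] at h5
    exact h5.symm

end Groth.Misc12.NDeuring
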