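import Groth.Agent.Misc12.NDeuring.Descent
import Groth.Agent.DerivedCoh.PCoh.TensorPerfect
import Groth.Agent.LocFree.Basic

/-! Indecomposable modules split into Galois invariant invertible modules are isotypical. -/

set_option autoImplicit false
set_option linter.style.haveILetI false
set_option backward.isDefEq.respectTransparency.types false

universe u

open CategoryTheory Limits AlgebraicGeometry W4c1astiltbs12
open Groth.VBCurves

namespace Groth.Misc12.NDeuring

variable {k : Type u} [Field k] {X : Scheme.{u}} (p : X ⟶ Spec (CommRingCat.of k))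

theorem isFinLocFree_of_isInvertible {Y : Scheme.{u}} {L : Y.Modules} (h : PicF.IsInvertible L) :
    FlatMod.IsFinLocFree L :=
  Groth.LocFree.isFinLocFree_of_rank (Groth.LocFree.isInvertible_iff_ofRank_one.1 h)

/-- Invertible modules with the same power are isomorphic. -/
theorem iso_of_pow_invertible [IsProper p] [ConnectedSpace X] {L L' : X.Modules}
    (hL : PicF.IsInvertible L) (hL' : PicF.IsInvertible L') {r r' : ℕ} (hr : 0 < r)
    (e : pow L r ≅ pow L' r') : Nonempty (L ≅ L') := by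
  let _ : X.Over (Spec (CommRingCat.of k)) := ⟨p⟩
  have : IsProper (X ↘ Spec (CommRingCat.of k)) := ‹IsProper p›
  have : IsLocallyNoetherian X := LocallyOfFiniteType.isLocallyNoetherian p
  have hc := Groth.KTheory.LocFree.isCoh (isFinLocFree_of_isInvertible hL)
  obtain ⟨σ, hσ⟩ := KS.unique_decomp (k := k) r r' (fun _ => L) (fun _ => L')
    (fun _ => KS.finite_hom k hc hc) (fun _ => ind_of_isInvertible hL)
    (fun _ => ind_of_isInvertible hL') ⟨e⟩
  exact hσ ⟨0, hr⟩

/-- Indecomposable modules split into Galois invariant invertible modules are isotypical. -/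
theorem exists_invertible_type [IsProper p] (K : Type u) [Field K] [Algebra k K] [IsSepClosure k K]
    [ConnectedSpace (W4bk4gw11416.baseChange p K)] (M : X.Modules) (hM : FlatMod.IsFinLocFree M)
    (hMi : KS.Ind M) {n : ℕ} (Ls : Fin n → (W4bk4gw11416.baseChange p K).Modules)
    (hLs : ∀ i, PicF.IsInvertible (Ls i))
    (hinv : ∀ (σ : K ≃ₐ[k] K) (i : Fin n),
      Nonempty ((Scheme.Modules.pullback (galAct p K σ)).obj (Ls i) ≅ Ls i))
    (e : bcMod p K M ≅ ∐ Ls) :
    ∃ (L : (W4bk4gw11416.baseChange p K).Modules) (r : ℕ), PicF.IsInvertible L ∧ 0 < r ∧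
      Nonempty (bcMod p K M ≅ pow L r) ∧
      ∀ (L' : (W4bk4gw11416.baseChange p K).Modules) (r' : ℕ), PicF.IsInvertible L' →
        Nonempty (bcMod p K M ≅ pow L' r') → Nonempty (L' ≅ L) := by
  classical
  haveI : IsGalois k K := inferInstance
  haveI : IsLocallyNoetherian X := LocallyOfFiniteType.isLocallyNoetherian p
  let q : W4bk4gw11416.baseChange p K ⟶ Spec (CommRingCat.of K) :=
    pullback.snd p (Spec.map (CommRingCat.ofHom (algebraMap k K)))
  haveI : IsProper q := MorphismProperty.pullback_snd _ _ ‹IsProper p›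
  let _ : X.Over (Spec (CommRingCat.of k)) := ⟨p⟩
  have : IsProper (X ↘ Spec (CommRingCat.of k)) := ‹IsProper p›
  have hMc := Groth.KTheory.LocFree.isCoh hM
  rcases n with _ | n
  · have hz : IsZero (bcMod p K M) := (KS.isZero_coprod_zero _).of_iso e
    have hz0 : IsZero (bcMod p K (pow M 0)) :=
      (Scheme.Modules.pullback (proj p K)).map_isZero (KS.isZero_coprod_zero _)
    obtain ⟨u⟩ := iso_of_bc_iso p K hMc (isCoh_pow hMc 0) (hz.iso hz0)
    exact absurd ((KS.isZero_coprod_zero _).of_iso u) hMi.1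
  have hex := fun i => exists_of_invariant p K (Ls i) (isFinLocFree_of_isInvertible (hLs i))
    (ind_of_isInvertible (hLs i)) fun σ => hinv σ i
  choose G r hG hGi hr hGe using hex
  let N := ∏ i, r i
  have hN : 0 < N := Finset.prod_pos fun i _ => hr i
  let c : Fin (n + 1) → ℕ := fun i => ∏ j ∈ Finset.univ.erase i, r j
  have hc : ∀ i, c i * r i = N := fun i => Finset.prod_erase_mul _ _ (Finset.mem_univ i)
  let Gs : Fin (∑ i, c i) → X.Modules := fun j => G (finSigmaFinEquiv.symm j).1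
  have hGs : Coh.IsCoh (∐ Gs) := Groth.KTheory.LocFree.isCoh
    (Groth.DerivedCoh.PCoh.isFinLocFree_sigma_finite _ Gs fun j => hG _)
  let F := Scheme.Modules.pullback (proj p K)
  let a : bcMod p K (pow M N) ≅ ∐ fun x : (_ : Fin N) × Fin (n + 1) => Ls x.2 :=
    PreservesCoproduct.iso F (fun _ : Fin N => M) ≪≫
      Sigma.whiskerEquiv (f := fun _ : Fin N => bcMod p K M) (g := fun _ : Fin N => ∐ Ls)
        (Equiv.refl _) (fun _ => e.symm) ≪≫
      sigmaSigmaIso (fun _ : Fin N => Fin (n + 1)) (fun _ => Ls)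
  let E : (_ : Fin N) × Fin (n + 1) ≃ (i : Fin (n + 1)) × ((_ : Fin (c i)) × Fin (r i)) :=
    ((Equiv.sigmaEquivProd _ _).trans ((Equiv.prodComm _ _).trans (Equiv.sigmaEquivProd _ _).symm)).trans
      (Equiv.sigmaCongrRight fun i =>
        ((finCongr (hc i).symm).trans finProdFinEquiv.symm).trans (Equiv.sigmaEquivProd _ _).symm)
  let b : bcMod p K (∐ Gs) ≅ ∐ fun x : (i : Fin (n + 1)) × ((_ : Fin (c i)) × Fin (r i)) => Ls x.1 :=
    PreservesCoproduct.iso F Gs ≪≫
      Sigma.whiskerEquiv (f := fun j => bcMod p K (Gs j))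
        (g := fun x : (i : Fin (n + 1)) × Fin (c i) => ∐ fun _ : Fin (r x.1) => Ls x.1)
        finSigmaFinEquiv.symm (fun j => (hGe _).some.symm) ≪≫
      sigmaSigmaIso (fun x : (i : Fin (n + 1)) × Fin (c i) => Fin (r x.1)) (fun x _ => Ls x.1) ≪≫
      Sigma.whiskerEquiv (f := fun x : (y : (i : Fin (n + 1)) × Fin (c i)) × Fin (r y.1) => Ls x.1.1)
        (g := fun x : (i : Fin (n + 1)) × ((_ : Fin (c i)) × Fin (r i)) => Ls x.1)
        (Equiv.sigmaAssoc fun i (_ : Fin (c i)) => Fin (r i)) (fun _ => Iso.refl _)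
  obtain ⟨u⟩ := iso_of_bc_iso p K (isCoh_pow hMc N) hGs
    (a ≪≫ Sigma.whiskerEquiv (f := fun x : (_ : Fin N) × Fin (n + 1) => Ls x.2)
      (g := fun x : (i : Fin (n + 1)) × ((_ : Fin (c i)) × Fin (r i)) => Ls x.1)
      E (fun _ => Iso.refl _) ≪≫ b.symm)
  obtain ⟨σ, hσ⟩ := KS.unique_decomp (k := k) N _ (fun _ => M) Gs (fun _ => KS.finite_hom k hMc hMc)
    (fun _ => hMi) (fun _ => hGi _) ⟨u⟩
  obtain ⟨v⟩ := hσ ⟨0, hN⟩
  let i := (finSigmaFinEquiv.symm (σ ⟨0, hN⟩)).1
  let w : bcMod p K M ≅ pow (Ls i) (r i) := F.mapIso v ≪≫ (hGe i).some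
  refine ⟨Ls i, r i, hLs i, hr i, ⟨w⟩, fun L' r' hL' ⟨e'⟩ => ?_⟩
  obtain ⟨z⟩ := iso_of_pow_invertible q (hLs i) hL' (hr i) (w.symm ≪≫ e')
  exact ⟨z.symm⟩

end Groth.Misc12.NDeuring
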