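import Groth.Agent.Misc12.NDeuring.Cancel
import Groth.Agent.KTheory.LocFree
import Groth.Agent.VectorBundles.LineBundleHom

/-! Retracts of powers, and indecomposability of invertible modules. -/

set_option autoImplicit false
set_option linter.style.haveILetI false
set_option backward.isDefEq.respectTransparency.types false

universe u

open CategoryTheory Limits AlgebraicGeometry W4c1astiltbs12
open Groth.VBCurves

namespace Groth.Misc12.NDeuring

/-- Retracts of finite locally free modules are finite locally free. -/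
theorem isFinLocFree_of_retract {X : Scheme.{u}} [IsLocallyNoetherian X] {A M : X.Modules} (a : A ⟶ M)
    (b : M ⟶ A) (h : a ≫ b = 𝟙 A) (hM : FlatMod.IsFinLocFree M) :
    Coh.IsCoh A ∧ FlatMod.IsFinLocFree A := by
  have hMc := Groth.KTheory.LocFree.isCoh hM
  haveI := hMc.1
  let i : A ≅ kernel (𝟙 M - b ≫ a) :=
    { hom := kernel.lift _ a (by simp [reassoc_of% h])
      inv := kernel.ι _ ≫ b
      hom_inv_id := by simp [h]
      inv_hom_id := by
        rw [← cancel_mono (kernel.ι (𝟙 M - b ≫ a)), Category.assoc, kernel.lift_ι, Category.id_comp,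
          Category.assoc]
        have h1 := kernel.condition (𝟙 M - b ≫ a)
        rw [Preadditive.comp_sub, Category.comp_id, sub_eq_zero] at h1
        exact h1.symm }
  have hAc : Coh.IsCoh A := Groth.QCohMod.isCoh_of_iso i.symm (Groth.QCohMod.isCoh_kernel _ hMc)
  refine ⟨hAc, Groth.KTheory.LocFree.isFinLocFree_of_free_stalks hAc fun x => ?_⟩
  haveI := hAc.1
  haveI := Groth.QCohMod.finite_stalk A hAc.2 x
  haveI := Groth.KTheory.LocFree.free_stalk hM x
  have : Module.Projective (X.presheaf.stalk x) (A.presheaf.stalk x) := by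
    refine Module.Projective.of_split (Groth.KTheory.LocFree.stalkₗ a x) (Groth.KTheory.LocFree.stalkₗ b x) ?_
    refine LinearMap.ext fun t => ?_
    have h3 : (Groth.QCohMod.stalk x).map a ≫ (Groth.QCohMod.stalk x).map b = 𝟙 _ := by
      rw [← Functor.map_comp, h]; exact CategoryTheory.Functor.map_id _ _
    exact ConcreteCategory.congr_hom h3 t
  exact Module.free_of_flat_of_isLocalRing

variable {k : Type u} [Field k] {X : Scheme.{u}} (p : X ⟶ Spec (CommRingCat.of k))

/-- A retract of a power of an indecomposable coherent module is a power. -/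
theorem iso_pow_of_retract [IsProper p] {L Y : X.Modules} (hL : Coh.IsCoh L) (hLi : KS.Ind L)
    (hY : Coh.IsCoh Y) {r : ℕ} (u : Y ⟶ pow L r) (v : pow L r ⟶ Y) (h : u ≫ v = 𝟙 Y) :
    ∃ a, Nonempty (Y ≅ pow L a) := by
  classical
  let _ : X.Over (Spec (CommRingCat.of k)) := ⟨p⟩
  have : IsProper (X ↘ Spec (CommRingCat.of k)) := ‹IsProper p›
  haveI : Module.Finite k (End Y) := KS.finite_hom k hY hY
  obtain ⟨n, Fs, hFs, ⟨e⟩⟩ := KS.exists_decomp (k := k) _ Y le_rfl
  have hfin : ∀ i, Module.Finite k (End (Fs i)) := fun i => by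
    rcases n with _ | n
    · exact i.elim0
    · exact (KS.finite_end_left (k := k) (e ≪≫ (KS.splitAt i Fs).symm)).1
  let π : ∀ j, pow L r ⟶ L := fun j => Sigma.desc fun l => if l = j then 𝟙 L else 0
  have hid : ∑ j, π j ≫ Sigma.ι (fun _ : Fin r => L) j = 𝟙 (pow L r) := by
    refine Sigma.hom_ext _ _ fun l => ?_
    rw [Preadditive.comp_sum, Category.comp_id, Finset.sum_eq_single l]
    · simp [π]
    · intro i _ hi; simp [π, Ne.symm hi]
    · exact fun h => absurd (Finset.mem_univ l) h
  have hiso : ∀ i, Nonempty (Fs i ≅ L) := fun i => by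
    let ρ : (∐ Fs) ⟶ Fs i := Sigma.desc fun l => if hl : l = i then eqToHom (congrArg Fs hl) else 0
    let a : Fs i ⟶ pow L r := Sigma.ι Fs i ≫ e.inv ≫ u
    let b : pow L r ⟶ Fs i := v ≫ e.hom ≫ ρ
    have hab : a ≫ b = 𝟙 _ := by simp [a, b, reassoc_of% h, ρ]
    have hsum : ∑ j, (a ≫ π j) ≫ (Sigma.ι (fun _ : Fin r => L) j ≫ b) = 𝟙 (Fs i) := by
      simp only [Category.assoc]
      rw [← Preadditive.comp_sum]
      simp only [← Category.assoc (π _)]
      rw [← Preadditive.sum_comp, hid, Category.id_comp, hab]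
    haveI := hfin i
    obtain ⟨j, -, hj⟩ := KS.isIso_of_sum (k := k) (Fs i) (hFs i) Finset.univ _
      (hsum.symm ▸ IsIso.id (Fs i) : IsIso (∑ j, (a ≫ π j) ≫ (Sigma.ι (fun _ : Fin r => L) j ≫ b)))
    haveI : IsIso (a ≫ π j) := KS.isIso_of_retract (hFs i).1 hLi (a ≫ π j)
      ((Sigma.ι (fun _ : Fin r => L) j ≫ b) ≫ inv ((a ≫ π j) ≫ (Sigma.ι (fun _ : Fin r => L) j ≫ b)))
      (by rw [← Category.assoc, IsIso.hom_inv_id])
    exact ⟨asIso (a ≫ π j)⟩
  exact ⟨n, ⟨e ≪≫ Sigma.whiskerEquiv (Equiv.refl _) (fun i => (hiso i).some.symm)⟩⟩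

/-- An invertible module on a connected scheme is indecomposable. -/
theorem ind_of_isInvertible {X : Scheme.{u}} [ConnectedSpace X] {L : X.Modules} (hL : PicF.IsInvertible L) :
    KS.Ind L := by
  open Groth.PicAux in
  refine ⟨fun hz => ?_, fun A B ⟨e⟩ => ?_⟩
  · obtain ⟨x⟩ := (inferInstance : Nonempty X)
    obtain ⟨U, s, hx, hs⟩ := (isInvertible_iff_exists_gen L).1 hL x
    have hs0 : s = 0 := congr(($((IsZero.iff_id_eq_zero L).1 hz)).app U s)
    haveI : Nonempty ↥U := ⟨⟨x, hx⟩⟩
    have h1 : (1 : Γ(X, U)) = 0 := hs.smul_inj le_rfl (by rw [res_self, one_smul, zero_smul, hs0])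
    exact one_ne_zero h1
  · let φ : L ⟶ L := e.hom ≫ biprod.fst ≫ biprod.inl ≫ e.inv
    obtain ⟨r, hr⟩ := Groth.VectorBundles.exists_eq_smul_of_isInvertible hL φ
    have hφ : φ ≫ φ = φ := by simp [φ]
    have hrr : IsIdempotentElem r := by
      choose U s hxU hs using fun x : X => (isInvertible_iff_exists_gen L).1 hL x
      refine res_ext (M := Coh.structureModule X) U (fun _ => le_top)
        (fun x _ => TopologicalSpace.Opens.mem_iSup.2 ⟨x, hxU x⟩) fun x => ?_
      show resX X (le_top : U x ≤ ⊤) (r * r) = resX X (le_top : U x ≤ ⊤) r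
      refine (hs x).smul_inj le_rfl ?_
      rw [res_self, map_mul, mul_smul, ← hr, ← hr]
      exact congr(($hφ).app (U x) (s x))
    have hor : r = 0 ∨ r = 1 := by
      have h0 : IsIdempotentElem (1 - r) := hrr.one_sub
      have hd : X.basicOpen r ⊓ X.basicOpen (1 - r) = ⊥ := by
        rw [← Scheme.basicOpen_mul, show r * (1 - r) = 0 by rw [mul_sub, mul_one, hrr.eq, sub_self]]
        exact Scheme.basicOpen_zero _ _
      have hc : X.basicOpen r ⊔ X.basicOpen (1 - r) = ⊤ := by
        refine eq_top_iff.2 fun x _ => ?_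
        have hu : IsUnit (X.presheaf.germ ⊤ x trivial r) ∨ IsUnit (X.presheaf.germ ⊤ x trivial (1 - r)) :=
          IsLocalRing.isUnit_or_isUnit_of_isUnit_add (by rw [← map_add, add_sub_cancel, map_one]; exact isUnit_one)
        rcases hu with hu | hu
        · exact Or.inl ((X.mem_basicOpen (U := ⊤) r x trivial).2 hu)
        · exact Or.inr ((X.mem_basicOpen (U := ⊤) (1 - r) x trivial).2 hu)
      have hclopen : IsClopen (X.basicOpen r : Set X) := by
        refine ⟨⟨?_⟩, (X.basicOpen r).2⟩
        convert (X.basicOpen (1 - r)).2 using 1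
        ext x
        refine ⟨fun hx => ((le_of_eq hc.symm) (trivial : x ∈ (⊤ : X.Opens))).resolve_left hx, fun hx hx' => ?_⟩
        exact (le_of_eq hd) (show x ∈ X.basicOpen r ⊓ X.basicOpen (1 - r) from ⟨hx', hx⟩)
      rcases isClopen_iff.1 hclopen with h1 | h1
      · left
        have hu : X.basicOpen (1 - r) = ⊤ := by
          have := hc
          rwa [show X.basicOpen r = ⊥ from TopologicalSpace.Opens.ext h1, bot_sup_eq] at this
        have hunit : IsUnit (1 - r) :=
          X.toLocallyRingedSpace.toRingedSpace.isUnit_of_isUnit_germ ⊤ (1 - r)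
            fun x hx => (X.mem_basicOpen _ x hx).1 (hu.ge (trivial : x ∈ (⊤ : X.Opens)))
        exact hunit.mul_right_eq_zero.1 (by rw [sub_mul, one_mul, hrr.eq, sub_self])
      · right
        have hunit : IsUnit r := X.toLocallyRingedSpace.toRingedSpace.isUnit_of_isUnit_germ ⊤ r
          fun x hx => (X.mem_basicOpen _ x hx).1 (show x ∈ (X.basicOpen r : Set X) by rw [h1]; trivial)
        exact hunit.mul_left_cancel (by rw [hrr.eq, mul_one])
    rcases hor with rfl | rfl
    · left
      have hz : φ = 0 := Groth.CohTwo.hom_ext_app fun V x => by rw [hr, map_zero, zero_smul]; rfl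
      rw [IsZero.iff_id_eq_zero]
      calc 𝟙 A = biprod.inl ≫ e.inv ≫ φ ≫ e.hom ≫ biprod.fst := by simp [φ]
        _ = 0 := by rw [hz]; simp
    · right
      have hz : φ = 𝟙 L := Groth.CohTwo.hom_ext_app fun V x => by rw [hr, map_one, one_smul]; rfl
      rw [IsZero.iff_id_eq_zero]
      calc 𝟙 B = biprod.inr ≫ e.inv ≫ 𝟙 L ≫ e.hom ≫ biprod.snd := by simp
        _ = 0 := by rw [← hz]; simp [φ]

end Groth.Misc12.NDeuring
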