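import Groth.Agent.Misc12.NDeuring.FieldHom
import Groth.Agent.Misc12.NDeuring.Retract
import Mathlib.LinearAlgebra.Matrix.ToLin
import Mathlib.RingTheory.LocalRing.Basic

/-! Dimensions of spaces of homomorphisms of isotypical modules. -/

set_option autoImplicit false
set_option linter.style.haveILetI false
set_option backward.isDefEq.respectTransparency.types false

universe u

open CategoryTheory Limits AlgebraicGeometry TensorProduct W4c1astiltbs12 Groth.PicAux
open Groth.VBCurves

namespace Groth.Misc12.NDeuring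

/-- Constants are the only functions when the base change is integral. -/
theorem glob_surjective_of_isIntegral {k : Type u} [Field k] {X : Scheme.{u}} (p : X ⟶ Spec (CommRingCat.of k))
    (K : Type u) [Field K] [Algebra k K] [IsProper p] [IsAlgClosed K]
    [IsIntegral (W4bk4gw11416.baseChange p K)] : Function.Surjective (glob p K) := by
  let r : W4bk4gw11416.baseChange p K ⟶ Spec (CommRingCat.of K) :=
    pullback.snd p (Spec.map (CommRingCat.ofHom (algebraMap k K)))
  haveI : IsProper r := MorphismProperty.pullback_snd _ _ ‹IsProper p›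
  letI := (glob p K).toAlgebra
  have hint : (glob p K).IsIntegral := by
    show (((Scheme.ΓSpecIso (CommRingCat.of K)).inv ≫ r.appTop).hom).IsIntegral
    apply RingHom.isIntegral_respectsIso.2 (e := (Scheme.ΓSpecIso (CommRingCat.of K)).symm.commRingCatIsoToRingEquiv)
    exact isIntegral_appTop_of_universallyClosed r
  haveI : Algebra.IsIntegral K Γ(W4bk4gw11416.baseChange p K, ⊤) := ⟨hint⟩
  exact (IsAlgClosed.algebraMap_bijective_of_isIntegral (k := K)).2

variable {k : Type u} [Field k] {X : Scheme.{u}} [X.Over (Spec (CommRingCat.of k))]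
variable (K : Type u) [Field K] [Algebra k K]

local notation "pX" => (X ↘ Spec (CommRingCat.of k))

theorem smul_eq_comp_scal {M N : X.Modules} (a : k) (f : M ⟶ N) : a • f = f ≫ scal N (gbase pX a) := by
  refine Groth.KTheory.ExtFilt.hom_ext_affine fun W _ x => ?_
  rw [KLin.smul_app_apply]
  rfl

theorem pb_smul_comp_scal {M N : X.Modules} (a : k) (f : M ⟶ N) (y : K) :
    (Scheme.Modules.pullback (proj pX K)).map (a • f) ≫ scal _ (glob pX K y) =
      (Scheme.Modules.pullback (proj pX K)).map f ≫ scal _ (glob pX K (a • y)) := by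
  rw [smul_eq_comp_scal, Functor.map_comp, map_scal, Category.assoc, scal_comp_scal, Algebra.smul_def,
    map_mul, glob_algebraMap]

/-- The dimension of homomorphisms of isotypical modules. -/
theorem finrank_hom [IsProper pX] (hsurj : Function.Surjective (glob pX K)) {A B : X.Modules}
    (hA : Coh.IsCoh A) (hB : Coh.IsCoh B) {L : (W4bk4gw11416.baseChange pX K).Modules}
    (hL : PicF.IsInvertible L) (hL0 : ¬ IsZero L) {a b : ℕ} (eA : bcMod pX K A ≅ pow L a)
    (eB : bcMod pX K B ≅ pow L b) : Module.finrank k (A ⟶ B) = a * b := by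
  classical
  haveI : CompactSpace X := HasAffineProperty.iff_of_isAffine (P := @QuasiCompact).1
    (inferInstance : QuasiCompact pX)
  haveI : IsAffineHom (proj pX K) := MorphismProperty.pullback_fst _ _ inferInstance
  haveI := hA.1
  haveI := hB.1
  haveI : Module.Finite k (A ⟶ B) := KS.finite_hom k hA hB
  let d := Module.finBasis k (A ⟶ B)
  let bK := Module.Basis.ofVectorSpace k K
  have hb := isFreeBasis_glob pX K bK
  let F := Scheme.Modules.pullback (proj pX K)
  let sc : K → ((bcMod pX K B) ⟶ bcMod pX K B) := fun y => scal _ (glob pX K y)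
  let Θ : (Fin (Module.finrank k (A ⟶ B)) → K) → (bcMod pX K A ⟶ bcMod pX K B) :=
    fun c => ∑ i, F.map (d i) ≫ sc (c i)
  -- scalars on L are faithful
  have hinj : ∀ x y : K, scal L (glob pX K x) = scal L (glob pX K y) → x = y := fun x y h => by
    by_contra hne
    obtain ⟨v, hv⟩ := (sub_ne_zero.2 hne).isUnit.map (glob pX K)
    have h0 : scal L v.val = 0 := by
      rw [hv, map_sub]
      have h1 := scal_add L (glob pX K x - glob pX K y) (glob pX K y)
      rw [sub_add_cancel, h] at h1
      exact add_eq_right.1 h1.symm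
    refine hL0 ((IsZero.iff_id_eq_zero L).2 ?_)
    rw [← scal_one L, ← v.mul_inv, ← scal_comp_scal, h0, zero_comp]
  have hcoef : ∀ h : L ⟶ L, ∃ x : K, h = scal L (glob pX K x) := fun h => by
    obtain ⟨t, ht⟩ := Groth.VectorBundles.exists_eq_smul_of_isInvertible hL h
    obtain ⟨x, rfl⟩ := hsurj t
    exact ⟨x, Groth.KTheory.ExtFilt.hom_ext_affine fun W _ s => ht W s⟩
  let ι' : Fin a → (L ⟶ bcMod pX K A) := fun i => Sigma.ι (fun _ => L) i ≫ eA.inv
  let π' : Fin a → (bcMod pX K A ⟶ L) := fun i => eA.hom ≫ Sigma.desc fun l => if l = i then 𝟙 L else 0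
  let ι'' : Fin b → (L ⟶ bcMod pX K B) := fun i => Sigma.ι (fun _ => L) i ≫ eB.inv
  let π'' : Fin b → (bcMod pX K B ⟶ L) := fun i => eB.hom ≫ Sigma.desc fun l => if l = i then 𝟙 L else 0
  have hsum : ∀ {n : ℕ} {M : (W4bk4gw11416.baseChange pX K).Modules} (e : M ≅ pow L n),
      ∑ i, (e.hom ≫ Sigma.desc fun l : Fin n => if l = i then 𝟙 L else 0) ≫
        (Sigma.ι (fun _ => L) i ≫ e.inv) = 𝟙 M := fun {n M} e => by
    have h : ∑ i, (Sigma.desc fun l : Fin n => if l = i then 𝟙 L else 0) ≫ Sigma.ι (fun _ : Fin n => L) i =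
        𝟙 (pow L n) := by
      refine Sigma.hom_ext _ _ fun l => ?_
      rw [Preadditive.comp_sum, Category.comp_id, Finset.sum_eq_single l]
      · simp
      · intro i _ hi; simp [Ne.symm hi]
      · exact fun h => absurd (Finset.mem_univ l) h
    simp only [Category.assoc]
    rw [← Preadditive.comp_sum]
    simp only [← Category.assoc (Sigma.desc _)]
    rw [← Preadditive.sum_comp, h, Category.id_comp, e.hom_inv_id]
  have hιπ : ∀ i l, ι' l ≫ π' i = if l = i then 𝟙 L else 0 := fun i l => by simp [ι', π']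
  have hιπ' : ∀ i l, ι'' l ≫ π'' i = if l = i then 𝟙 L else 0 := fun i l => by simp [ι'', π'']
  choose co hco using fun (c : Fin (Module.finrank k (A ⟶ B)) → K) (q : Fin a × Fin b) =>
    hcoef (ι' q.1 ≫ Θ c ≫ π'' q.2)
  have Θadd : ∀ c c', Θ (c + c') = Θ c + Θ c' := fun c c' => by
    show ∑ i, F.map (d i) ≫ sc (c i + c' i) = (∑ i, F.map (d i) ≫ sc (c i)) + ∑ i, F.map (d i) ≫ sc (c' i)
    rw [← Finset.sum_add_distrib]
    refine Finset.sum_congr rfl fun i _ => ?_
    simp [sc, map_add, scal_add]
  have Θsmul : ∀ (x : K) c, Θ (x • c) = Θ c ≫ sc x := fun x c => by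
    show ∑ i, F.map (d i) ≫ sc (x * c i) = (∑ i, F.map (d i) ≫ sc (c i)) ≫ sc x
    rw [Preadditive.sum_comp]
    refine Finset.sum_congr rfl fun i _ => ?_
    rw [Category.assoc, scal_comp_scal, ← map_mul, mul_comm]
  let T : (Fin (Module.finrank k (A ⟶ B)) → K) →ₗ[K] (Fin a × Fin b → K) :=
    { toFun := co
      map_add' := fun c c' => funext fun q => hinj _ _ (by
        rw [Pi.add_apply, map_add, scal_add, ← hco, ← hco, ← hco, Θadd, Preadditive.add_comp,
          Preadditive.comp_add])
      map_smul' := fun x c => funext fun q => hinj _ _ (by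
        rw [RingHom.id_apply, Pi.smul_apply, smul_eq_mul, mul_comm, map_mul, ← scal_comp_scal, ← hco,
          ← hco, Θsmul]
        simp only [sc, Category.assoc, scal_comm]) }
  have hTinj : Function.Injective T := by
    rw [← LinearMap.ker_eq_bot, LinearMap.ker_eq_bot']
    intro c hc
    have hz : Θ c = 0 := by
      have : Θ c = (∑ i, π' i ≫ ι' i) ≫ Θ c ≫ (∑ j, π'' j ≫ ι'' j) := by
        rw [hsum eA, hsum eB, Category.id_comp, Category.comp_id]
      rw [this]
      simp only [Preadditive.sum_comp, Preadditive.comp_sum]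
      refine Finset.sum_eq_zero fun j _ => Finset.sum_eq_zero fun i _ => ?_
      rw [show (π' i ≫ ι' i) ≫ Θ c ≫ π'' j ≫ ι'' j = π' i ≫ (ι' i ≫ Θ c ≫ π'' j) ≫ ι'' j by
        simp only [Category.assoc], hco c (i, j), show co c (i, j) = 0 from congrFun hc (i, j), map_zero,
        scal_zero, zero_comp, comp_zero]
    let S := Finset.univ.biUnion fun i => (bK.repr (c i)).support
    have hexp : Θ c = ∑ t ∈ S, F.map (∑ i, bK.repr (c i) t • d i) ≫ sc (bK t) := by
      simp only [Functor.map_sum, Preadditive.sum_comp]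
      rw [Finset.sum_comm]
      refine Finset.sum_congr rfl fun i _ => ?_
      conv_lhs => rw [← bK.linearCombination_repr (c i), Finsupp.linearCombination_apply, Finsupp.sum]
      rw [show sc (∑ t ∈ (bK.repr (c i)).support, bK.repr (c i) t • bK t) =
          ∑ t ∈ (bK.repr (c i)).support, sc (bK.repr (c i) t • bK t) by simp only [sc, map_sum, scal_sum],
        Preadditive.comp_sum]
      refine (Finset.sum_subset (Finset.subset_biUnion_of_mem (fun i => (bK.repr (c i)).support)
        (Finset.mem_univ i)) fun t _ ht => ?_).trans (Finset.sum_congr rfl fun t _ => ?_)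
      · rw [Finsupp.notMem_support_iff.1 ht, zero_smul]
        simp [sc, scal_zero]
      · exact (pb_smul_comp_scal K _ _ _).symm
    funext i
    refine bK.ext_elem fun t => ?_
    rw [Pi.zero_apply, map_zero, Finsupp.zero_apply]
    by_cases ht : t ∈ S
    · have h1 := eq_zero_of_sum _ _ hb _ _ (hexp.symm.trans hz) t ht
      exact Fintype.linearIndependent_iff.1 d.linearIndependent _ h1 i
    · by_contra hne
      exact ht (Finset.mem_biUnion.2 ⟨i, Finset.mem_univ i, Finsupp.mem_support_iff.2 hne⟩)
  have hTsurj : Function.Surjective T := by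
    intro x
    let h : bcMod pX K A ⟶ bcMod pX K B := ∑ i, ∑ j, π' i ≫ scal L (glob pX K (x (i, j))) ≫ ι'' j
    obtain ⟨S, g, hg⟩ := exists_eq_sum _ _ hb hA.2 h
    refine ⟨fun i => ∑ t ∈ S, d.repr (g t) i • bK t, funext fun q => hinj _ _ ?_⟩
    show scal L (glob pX K (co _ q)) = _
    rw [← hco]
    have hΘ : Θ (fun i => ∑ t ∈ S, d.repr (g t) i • bK t) = h := by
      rw [hg]
      show ∑ i, F.map (d i) ≫ scal _ (glob pX K (∑ t ∈ S, d.repr (g t) i • bK t)) = _
      simp only [map_sum, scal_sum, Preadditive.comp_sum, ← pb_smul_comp_scal]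
      rw [Finset.sum_comm]
      refine Finset.sum_congr rfl fun t _ => ?_
      conv_rhs => rw [← d.sum_repr (g t), Functor.map_sum, Preadditive.sum_comp]
      exact Finset.sum_congr rfl fun j _ => (pb_smul_comp_scal K _ _ _).symm
    rw [hΘ]
    simp only [h, Preadditive.comp_sum, Preadditive.sum_comp]
    rw [Finset.sum_eq_single q.1, Finset.sum_eq_single q.2]
    · simp only [← Category.assoc, hιπ, hιπ']
      simp [hιπ']
    · intro j _ hj
      simp [hιπ', hj]
    · exact fun hh => absurd (Finset.mem_univ _) hh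
    · intro i _ hi
      refine Finset.sum_eq_zero fun j _ => ?_
      rw [← Category.assoc, ← Category.assoc, ← Category.assoc, hιπ, if_neg (Ne.symm hi)]
      simp
    · exact fun hh => absurd (Finset.mem_univ _) hh
  have h := (LinearEquiv.ofBijective T ⟨hTinj, hTsurj⟩).finrank_eq
  simpa using h

/-- The endomorphisms of an indecomposable isotypical module form a division ring. -/
theorem isUnit_end [IsProper pX] (hsurj : Function.Surjective (glob pX K)) {E : X.Modules}
    (hE : Coh.IsCoh E) (hi : KS.Ind E) {L : (W4bk4gw11416.baseChange pX K).Modules}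
    (hL : PicF.IsInvertible L) {r : ℕ} (e : bcMod pX K E ≅ pow L r) {f : End E} (hf : f ≠ 0) :
    IsUnit f := by
  haveI : Module.Finite k (End E) := KS.finite_hom k hE hE
  haveI : IsSimpleRing (End E) := isSimpleRing_end_of_surjective pX K hsurj hE hi.1 hL e
  haveI : Nontrivial (End E) := IsSimpleRing.instNontrivial
  haveI : IsLocalRing (End E) := IsLocalRing.of_isUnit_or_isUnit_one_sub_self fun g => by
    refine (KS.fitting (k := k) E hi g).imp id fun hn => ?_
    exact hn.isUnit_one_sub
  by_contra hu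
  let I : TwoSidedIdeal (End E) := TwoSidedIdeal.mk' (nonunits (End E)) not_isUnit_zero
    (fun {x y} => IsLocalRing.nonunits_add) (fun {x} hx => fun h => hx (by simpa using h.neg))
    (fun {x y} hy h => hy ?_) (fun {x y} hx h => hx ?_)
  · rcases eq_bot_or_eq_top I with h | h
    · have : f ∈ (⊥ : TwoSidedIdeal (End E)) := h ▸ ((TwoSidedIdeal.mem_mk' _ _ _ _ _ _ f).2 hu)
      exact hf ((TwoSidedIdeal.mem_bot _).1 this)
    · have : (1 : End E) ∈ I := h ▸ trivial
      exact (TwoSidedIdeal.mem_mk' _ _ _ _ _ _ _).1 this isUnit_one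
  · haveI : IsArtinianRing (End E) := IsArtinianRing.of_finite k _
    exact (IsUnit.mul_iff.1 h).2
  · haveI : IsArtinianRing (End E) := IsArtinianRing.of_finite k _
    exact (IsUnit.mul_iff.1 h).1

end Groth.Misc12.NDeuring
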