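import Groth.Agent.Misc12.NDeuring.Push
import Groth.Agent.LimitMod.Modules
import Groth.Agent.Limits.DescentSetup
import Groth.Agent.FlatStrata.FlatModel
import Groth.Agent.VBCurves.KrullSchmidt
import Groth.Prelude.Def_W4c1astiltbs12AS
import Mathlib.Algebra.Category.Ring.FilteredColimits
import Mathlib.RingTheory.TensorProduct.Free

/-! Isomorphism over an algebraic extension gives isomorphism of powers. -/

set_option autoImplicit false
set_option linter.style.haveILetI false
set_option backward.isDefEq.respectTransparency.types false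

universe u

open CategoryTheory Limits AlgebraicGeometry TensorProduct

namespace Groth.Misc12.NDeuring

section FieldLimit

variable (k : Type u) [Field k] (K : Type u) [Field K] [Algebra k K]

/-- Finitely generated subalgebras. -/
abbrev FinSub : Type u := {s : Subalgebra k K // s.FG}

instance : Nonempty (FinSub k K) := ⟨⟨⊥, Subalgebra.fg_bot⟩⟩

instance : IsDirected (FinSub k K) (· ≤ ·) :=
  ⟨fun s t ↦ ⟨⟨s.1 ⊔ t.1, s.2.sup t.2⟩, le_sup_left (a := s.1), le_sup_right (a := s.1)⟩⟩

/-- The system of finitely generated subalgebras. -/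
def finDiagram : FinSub k K ⥤ CommRingCat.{u} where
  obj s := CommRingCat.of s.1
  map {_ _} f := CommRingCat.ofHom (Subalgebra.inclusion (leOfHom f)).toRingHom
  map_id _ := rfl
  map_comp _ _ := rfl

/-- The cocone with point the field. -/
def finCocone : Cocone (finDiagram k K) where
  pt := CommRingCat.of K
  ι :=
    { app := fun s ↦ CommRingCat.ofHom (S := K) s.1.val.toRingHom
      naturality := fun _ _ _ ↦ rfl }

/-- The field is the colimit of its finitely generated subalgebras. -/
noncomputable def isColimitFinCocone : IsColimit (finCocone k K) := by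
  have : ReflectsColimit (finDiagram k K) (forget CommRingCat.{u}) :=
    reflectsColimit_of_reflectsIsomorphisms _ _
  refine isColimitOfReflects (forget CommRingCat.{u}) ?_
  refine Types.FilteredColimit.isColimitOf _ _ (fun (a : K) ↦ ?_) (fun s t x y h ↦ ?_)
  · exact ⟨⟨Algebra.adjoin k {a}, Subalgebra.fg_def.2 ⟨_, Set.finite_singleton _, rfl⟩⟩,
      ⟨a, Algebra.self_mem_adjoin_singleton (A := K) k a⟩, rfl⟩
  · obtain ⟨r, hsr, htr⟩ := exists_ge_ge s t
    exact ⟨r, homOfLE hsr, homOfLE htr, Subtype.ext h⟩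

/-- The system of spectra. -/
noncomputable abbrev finSchemes : (FinSub k K)ᵒᵖ ⥤ Scheme.{u} := (finDiagram k K).op ⋙ Scheme.Spec

instance isAffineHom_finSchemes (s t : (FinSub k K)ᵒᵖ) (f : s ⟶ t) :
    IsAffineHom ((finSchemes k K).map f) :=
  inferInstanceAs (IsAffineHom (Spec.map ((finDiagram k K).map f.unop)))

/-- The structure maps of the system. -/
noncomputable def finToBase : finSchemes k K ⟶ (Functor.const _).obj (Spec (CommRingCat.of k)) where
  app i := Spec.map (CommRingCat.ofHom (algebraMap k i.unop.1))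
  naturality i j m := by
    show Spec.map ((finDiagram k K).map m.unop) ≫ _ = _ ≫ 𝟙 _
    rw [Category.comp_id, ← Spec.map_comp]
    rfl

end FieldLimit

open W4c1astiltbs12

variable {k : Type u} [Field k] {X : Scheme.{u}} (p : X ⟶ Spec (CommRingCat.of k))

/-- The functions on the base change to a finite algebra are free. -/
theorem bijective_basis_sum (A : Type u) [CommRing A] [Algebra k A] {n : ℕ} (b : Module.Basis (Fin n) k A)
    {Z : Scheme.{u}} (q : Z ⟶ X) (r : Z ⟶ Spec (CommRingCat.of A))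
    (h : IsPullback q r p (Spec.map (CommRingCat.ofHom (algebraMap k A))))
    (W : X.Opens) (hW : IsAffineOpen W) :
    Function.Bijective fun c : Fin n → Γ(X, W) => ∑ i, q.app W (c i) *
      Groth.PicAux.resX Z (le_top : q ⁻¹ᵁ W ≤ ⊤) (r.appTop ((Scheme.ΓSpecIso (CommRingCat.of A)).inv (b i))) := by
  classical
  have hUY : q ⁻¹ᵁ W = q ⁻¹ᵁ W ⊓ r ⁻¹ᵁ ⊤ := by simp
  have h0 := (isIso_pushoutSection_iff h (US := ⊤) (UT := ⊤) (UX := W) le_top le_top hUY).1
    (isIso_pushoutSection_of_isAffineOpen h le_top le_top hUY (isAffineOpen_top _) (isAffineOpen_top _) hW)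
  let φW : k →+* Γ(X, W) := (p.appLE ⊤ W le_top).hom.comp (Scheme.ΓSpecIso (CommRingCat.of k)).inv.hom
  let φA : A →+* Γ(Z, q ⁻¹ᵁ W) :=
    (r.appLE ⊤ (q ⁻¹ᵁ W) le_top).hom.comp (Scheme.ΓSpecIso (CommRingCat.of A)).inv.hom
  let φq : Γ(X, W) →+* Γ(Z, q ⁻¹ᵁ W) := (q.appLE W (q ⁻¹ᵁ W) le_rfl).hom
  have h1 : IsPushout (CommRingCat.ofHom φW) (CommRingCat.ofHom (algebraMap k A))
      (CommRingCat.ofHom φq) (CommRingCat.ofHom φA) := by
    refine h0.of_iso (Scheme.ΓSpecIso (CommRingCat.of k)) (Iso.refl _)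
      (Scheme.ΓSpecIso (CommRingCat.of A)) (Iso.refl _) ?_ ?_ ?_ ?_
    · ext x
      simp [φW]
    · rw [show (Spec.map (CommRingCat.ofHom (algebraMap k A))).appLE ⊤ ⊤ le_top =
        (Spec.map (CommRingCat.ofHom (algebraMap k A))).appTop from Scheme.Hom.appLE_eq_app _]
      exact Scheme.ΓSpecIso_naturality _
    · simp [φq]
    · ext x
      simp [φA]
  letI := φW.toAlgebra
  letI := φA.toAlgebra
  letI := φq.toAlgebra
  letI : Algebra k Γ(Z, q ⁻¹ᵁ W) := (φq.comp φW).toAlgebra
  haveI : IsScalarTower k Γ(X, W) Γ(Z, q ⁻¹ᵁ W) := IsScalarTower.of_algebraMap_eq' rfl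
  haveI : IsScalarTower k A Γ(Z, q ⁻¹ᵁ W) := IsScalarTower.of_algebraMap_eq' (congrArg CommRingCat.Hom.hom h1.w)
  have h2 : Algebra.IsPushout k Γ(X, W) A Γ(Z, q ⁻¹ᵁ W) := CommRingCat.isPushout_iff_isPushout.1 h1
  let B : Module.Basis (Fin n) Γ(X, W) Γ(Z, q ⁻¹ᵁ W) :=
    (Algebra.TensorProduct.basis Γ(X, W) b).map h2.out.equiv
  have hB : ∀ i, B i = φA (b i) := fun i => by
    simp [B, IsBaseChange.equiv_tmul]
    rfl
  convert B.equivFun.symm.bijective using 1
  funext c
  rw [Module.Basis.equivFun_symm_apply]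
  refine Finset.sum_congr rfl fun i _ => ?_
  rw [hB, Algebra.smul_def]
  show q.app W (c i) * _ = φq (c i) * _
  congr 1
  simp [φq, Scheme.Hom.appLE_eq_app]

/-- Isomorphism over an algebraic extension gives an isomorphism of finite powers. -/
theorem exists_pow_iso [IsProper p] (K : Type u) [Field K] [Algebra k K] [Algebra.IsAlgebraic k K]
    (F G : X.Modules) (hF : Coh.IsCoh F) (hG : Coh.IsCoh G) (e : bcMod p K F ≅ bcMod p K G) :
    ∃ n : ℕ, 0 < n ∧ Nonempty (pow F n ≅ pow G n) := by
  haveI : IsLocallyNoetherian X := LocallyOfFiniteType.isLocallyNoetherian p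
  haveI : CompactSpace X := HasAffineProperty.iff_of_isAffine (P := @QuasiCompact).1
    (inferInstance : QuasiCompact p)
  haveI : QuasiSeparatedSpace X := quasiSeparatedSpace_of_quasiSeparated p
  let t := finToBase k K
  let c : Cone (finSchemes k K) := Scheme.Spec.mapCone (finCocone k K).op
  let hc : IsLimit c := isLimitOfPreserves Scheme.Spec (isColimitFinCocone k K).op
  let τ : c.pt ⟶ Spec (CommRingCat.of k) := Spec.map (CommRingCat.ofHom (algebraMap k K))
  have hτ : ∀ i, c.π.app i ≫ t.app i = τ := fun i => by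
    show Spec.map ((finCocone k K).ι.app i.unop) ≫ Spec.map _ = Spec.map _
    rw [← Spec.map_comp]
    rfl
  let i₀ : (FinSub k K)ᵒᵖ := Opposite.op ⟨⊥, Subalgebra.fg_bot⟩
  let D := Groth.Limits.bcDiagram t p
  let cb := Groth.Limits.bcCone t p c τ hτ
  haveI : IsAffine ((finSchemes k K).obj i₀) := inferInstanceAs (IsAffine (Spec _))
  haveI : CompactSpace (D.obj i₀) := by
    have : QuasiCompact (pullback.snd p (t.app i₀)) := MorphismProperty.pullback_snd p (t.app i₀) inferInstance
    exact HasAffineProperty.iff_of_isAffine (P := @QuasiCompact).1 this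
  have hqs : QuasiSeparated (pullback.snd p (t.app i₀)) := MorphismProperty.pullback_snd p (t.app i₀) inferInstance
  haveI : QuasiSeparatedSpace (D.obj i₀) :=
    @quasiSeparatedSpace_of_quasiSeparated _ _ (pullback.snd p (t.app i₀)) inferInstance hqs
  haveI := hF.1
  haveI := hG.1
  have hFP := Groth.FlatStrata.isFP_of_isCoh hF
  have hGP := Groth.FlatStrata.isFP_of_isCoh hG
  let fst₀ : D.obj i₀ ⟶ X := pullback.fst p (t.app i₀)
  have hfst : cb.π.app i₀ ≫ fst₀ = proj p K := pullback.lift_fst _ _ _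
  let cmp : ∀ M : X.Modules, (Scheme.Modules.pullback (cb.π.app i₀)).obj ((Scheme.Modules.pullback fst₀).obj M) ≅
      bcMod p K M := fun M => (Scheme.Modules.pullbackComp _ _).app M ≪≫
        (Scheme.Modules.pullbackCongr hfst).app M
  haveI := Groth.QCohMod.isQCoh_pullback_obj fst₀ F
  haveI := Groth.QCohMod.isQCoh_pullback_obj fst₀ G
  obtain ⟨j, φ, ⟨ej⟩⟩ := Groth.LimitMod.exists_iso_stage (Groth.Limits.isLimitBcCone t p c τ hτ hc)
    (Groth.QCohMod.isFP_pullback fst₀ F hFP) (Groth.QCohMod.isFP_pullback fst₀ G hGP)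
    (cmp F ≪≫ e ≪≫ (cmp G).symm)
  let A : Type u := j.unop.1
  let q : D.obj j ⟶ X := pullback.fst p (t.app j)
  have hq : D.map φ ≫ fst₀ = q := pullback.lift_fst _ _ _
  let cq : ∀ M : X.Modules, (Scheme.Modules.pullback (D.map φ)).obj ((Scheme.Modules.pullback fst₀).obj M) ≅
      (Scheme.Modules.pullback q).obj M := fun M => (Scheme.Modules.pullbackComp _ _).app M ≪≫
        (Scheme.Modules.pullbackCongr hq).app M
  let eq : (Scheme.Modules.pullback q).obj F ≅ (Scheme.Modules.pullback q).obj G :=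
    (cq F).symm ≪≫ ej ≪≫ cq G
  haveI : Algebra.FiniteType k A := j.unop.1.fg_iff_finiteType.1 j.unop.2
  haveI : Algebra.IsIntegral k A := ⟨fun a => (isIntegral_algHom_iff j.unop.1.val Subtype.val_injective).1
    (Algebra.IsAlgebraic.isAlgebraic (a : K)).isIntegral⟩
  haveI : Module.Finite k A := Algebra.IsIntegral.finite
  haveI : IsAffine ((finSchemes k K).obj j) := inferInstanceAs (IsAffine (Spec _))
  haveI : IsAffineHom (t.app j) := inferInstanceAs (IsAffineHom (Spec.map _))
  haveI : IsAffineHom q := MorphismProperty.pullback_fst p (t.app j) ‹_›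
  let bA := Module.finBasis k A
  have hb := bijective_basis_sum p A bA q (pullback.snd p (t.app j)) (IsPullback.of_hasPullback p (t.app j))
  obtain ⟨eF⟩ := nonempty_iso_push_pull q F _ hb
  obtain ⟨eG⟩ := nonempty_iso_push_pull q G _ hb
  exact ⟨_, Module.finrank_pos, ⟨eF ≪≫ (Coh.push q).mapIso eq ≪≫ eG.symm⟩⟩

end Groth.Misc12.NDeuring
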