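import Groth.Agent.PicAux.Pullback
import Groth.Agent.QCohMod.PullbackSections
import Groth.Agent.QCohMod.ClosedImm
import Mathlib.LinearAlgebra.TensorProduct.Basis

/-! The direct image of an inverse image along an affine morphism with free algebra. -/

set_option autoImplicit false
set_option linter.style.haveILetI false
set_option backward.isDefEq.respectTransparency.types false

universe u

open CategoryTheory Limits AlgebraicGeometry TopologicalSpace TensorProduct Groth.PicAux

namespace Groth.Misc12.NDeuring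

variable {X Y : Scheme.{u}}

/-- Multiplication by a global function. -/
noncomputable def scal (M : X.Modules) (r : Γ(X, ⊤)) : M ⟶ M :=
  ⟨PresheafOfModules.homMk
    { app := fun U => AddCommGrpCat.ofHom
        (AddMonoidHom.mk' (fun x : Γ(M, U.unop) => resX X (le_top : U.unop ≤ ⊤) r • x) (fun x y => smul_add _ x y))
      naturality := fun U V g => AddCommGrpCat.ext fun (x : Γ(M, U.unop)) => by
        change resX X (le_top : V.unop ≤ ⊤) r • res M g.unop.le x =
          res M g.unop.le (resX X (le_top : U.unop ≤ ⊤) r • x)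
        rw [res_smul, resX_resX] }
    fun U (s : Γ(X, U.unop)) (x : Γ(M, U.unop)) => by
      change resX X (le_top : U.unop ≤ ⊤) r • s • x = s • resX X (le_top : U.unop ≤ ⊤) r • x
      rw [smul_smul, smul_smul, mul_comm]⟩

theorem sum_app {M N : X.Modules} {ι : Type*} (s : Finset ι) (φ : ι → (M ⟶ N)) (W : X.Opens)
    (x : Γ(M, W)) : (∑ i ∈ s, φ i).app W x = ∑ i ∈ s, (φ i).app W x := by
  classical
  induction s using Finset.induction_on with
  | empty => simp only [Finset.sum_empty]; rfl
  | insert a s ha ih => rw [Finset.sum_insert ha, Finset.sum_insert ha, ← ih]; rfl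

variable (q : X ⟶ Y) (G : Y.Modules) {n : ℕ}

/-- The direct image of the inverse image along an affine morphism with free algebra is a power. -/
theorem nonempty_iso_push_pull [IsAffineHom q] [G.IsQuasicoherent] (b : Fin n → Γ(X, ⊤))
    (hb : ∀ W : Y.Opens, IsAffineOpen W → Function.Bijective fun c : Fin n → Γ(Y, W) =>
      ∑ i, q.app W (c i) * resX X (le_top : q ⁻¹ᵁ W ≤ ⊤) (b i)) :
    Nonempty ((∐ fun _ : Fin n => G) ≅ (Coh.push q).obj ((Scheme.Modules.pullback q).obj G)) := by
  classical
  let F := fun _ : Fin n => G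
  let m : ∀ i, G ⟶ (Coh.push q).obj ((Scheme.Modules.pullback q).obj G) := fun i =>
    (Scheme.Modules.pullbackPushforwardAdjunction q).unit.app G ≫ (Coh.push q).map (scal _ (b i))
  let π : ∀ i, (∐ F) ⟶ G := fun i => Sigma.desc fun l => if l = i then 𝟙 G else 0
  have hid : ∑ i, π i ≫ Sigma.ι F i = 𝟙 (∐ F) := by
    refine Sigma.hom_ext _ _ fun l => ?_
    rw [Preadditive.comp_sum, Category.comp_id, Finset.sum_eq_single l]
    · simp [π]; exact Category.id_comp _
    · intro i _ hi; simp [π, Ne.symm hi]
    · exact fun h => absurd (Finset.mem_univ l) h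
  haveI : IsIso (Sigma.desc m) := by
    haveI : (∐ F).IsQuasicoherent := by
      have : ∀ j, ((Discrete.functor F).obj j).IsQuasicoherent := fun _ => inferInstanceAs G.IsQuasicoherent
      exact Groth.QCohMod.isQCoh_of_isColimit _ _ (colimit.isColimit (Discrete.functor F))
    haveI : ((Coh.push q).obj ((Scheme.Modules.pullback q).obj G)).IsQuasicoherent :=
      Groth.QCohMod.isQCoh_pushforward (M := (Scheme.Modules.pullback q).obj G) q
    refine Groth.QCohMod.isIso_of_affine_bijective _ fun W hW => ?_
    let e : q ⁻¹ᵁ W ≤ q ⁻¹ᵁ W := le_rfl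
    letI := Groth.QCohMod.sectionsAlg q e
    have halg : ∀ r : Γ(Y, W), algebraMap Γ(Y, W) Γ(X, q ⁻¹ᵁ W) r = q.app W r := fun r => by
      show q.appLE W (q ⁻¹ᵁ W) e r = _
      rw [Scheme.Hom.appLE_eq_app]
    let β : (Fin n → Γ(Y, W)) →ₗ[Γ(Y, W)] Γ(X, q ⁻¹ᵁ W) :=
      { toFun := fun c => ∑ i, q.app W (c i) * resX X (le_top : q ⁻¹ᵁ W ≤ ⊤) (b i)
        map_add' := fun c c' => by
          simp only [Pi.add_apply, map_add, add_mul, Finset.sum_add_distrib]
        map_smul' := fun r c => by
          simp only [Pi.smul_apply, smul_eq_mul, map_mul, RingHom.id_apply, Algebra.smul_def, halg,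
            Finset.mul_sum, mul_assoc] }
    let B : Module.Basis (Fin n) Γ(Y, W) Γ(X, q ⁻¹ᵁ W) :=
      Module.Basis.ofEquivFun (LinearEquiv.ofBijective β (hb W hW)).symm
    have hB : ∀ i, B i = resX X (le_top : q ⁻¹ᵁ W ≤ ⊤) (b i) := fun i => by
      simp [B, β, Pi.single_apply, apply_ite (q.app W), ite_mul]
    let E := Groth.QCohMod.pullSecEquiv q G e hW (hW.preimage q)
    let Θ : (Fin n → Γ(G, W)) → Γ((Scheme.Modules.pullback q).obj G, q ⁻¹ᵁ W) := fun c =>
      E ((TensorProduct.equivFinsuppOfBasisLeft B).symm (Finsupp.equivFunOnFinite.symm c))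
    have hΘ : Function.Bijective Θ := E.bijective.comp
      ((TensorProduct.equivFinsuppOfBasisLeft B).symm.bijective.comp Finsupp.equivFunOnFinite.symm.bijective)
    let P : Γ(∐ F, W) → (Fin n → Γ(G, W)) := fun x i => (π i).app W x
    have hrec : ∀ x, x = ∑ i, (Sigma.ι F i).app W (P x i) := fun x => by
      have h := sum_app Finset.univ (fun i => π i ≫ Sigma.ι F i) W x
      rw [hid] at h
      exact h
    have hP : Function.Bijective P := by
      refine ⟨fun x y h => by rw [hrec x, hrec y, h], fun c => ⟨∑ i, (Sigma.ι F i).app W (c i), ?_⟩⟩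
      funext j
      show (π j).app W _ = _
      rw [map_sum, Finset.sum_eq_single j]
      · show (Sigma.ι F j ≫ π j).app W (c j) = c j
        rw [Sigma.ι_desc, if_pos rfl]
        rfl
      · intro i _ hi
        show (Sigma.ι F i ≫ π j).app W (c i) = 0
        rw [Sigma.ι_desc, if_neg hi]
        rfl
      · exact fun h => absurd (Finset.mem_univ j) h
    have key : ∀ x, (Sigma.desc m).app W x = Θ (P x) := fun x => by
      have hE : ∀ (i : Fin n) (g : Γ(G, W)), E (B i ⊗ₜ g) = (m i).app W g := fun i g => by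
        show B i • res _ e (pullSec q G g) =
          resX X (le_top : q ⁻¹ᵁ W ≤ ⊤) (b i) • pullSec q G g
        rw [hB, res_self]
      conv_lhs => rw [hrec x]
      rw [map_sum]
      simp only [Θ, TensorProduct.equivFinsuppOfBasisLeft_symm_apply]
      rw [Finsupp.sum_fintype _ _ (fun i => tmul_zero _ _), map_sum]
      refine Finset.sum_congr rfl fun i _ => ?_
      rw [Finsupp.coe_equivFunOnFinite_symm, hE]
      show (Sigma.ι F i ≫ Sigma.desc m).app W _ = _
      rw [Sigma.ι_desc]
    rw [show ((Sigma.desc m).app W : Γ(∐ F, W) → _) = fun x => Θ (P x) from funext key]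
    exact hΘ.comp hP
  exact ⟨asIso (Sigma.desc m)⟩

end Groth.Misc12.NDeuring
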