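import Groth.Agent.Misc12.NDeuring.IsotypicDim
import Groth.Agent.Curves1.RR.GenusZeroP1
import Groth.Agent.PnCoh.VanishingClosed
import Groth.Agent.Duality.SheafHomTwist
import Groth.Agent.PicAux.Pullback
import Groth.Agent.LocFree.Tensor
import Groth.Agent.S14204
import Groth.Prelude.Def_BrSev

/-! Ranks of indecomposable modules of twisting type. -/

set_option autoImplicit false
set_option linter.style.haveILetI false
set_option backward.isDefEq.respectTransparency.types false

universe u

open CategoryTheory Limits AlgebraicGeometry W4c1astiltbs12 Groth.PicAux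
open Groth.VBCurves

namespace Groth.Misc12.NDeuring

/-- A division algebra of endomorphisms divides the dimensions it acts on. -/
theorem finrank_dvd_of_action {k : Type u} [Field k] {C : Type*} [Category.{u} C] [Preadditive C]
    [Linear k C] {W : C} [Nontrivial (End W)] (hu : ∀ g : End W, g ≠ 0 → IsUnit g) (U T : C)
    (φ : (W ⟶ W) → (T ⟶ T)) (hadd : ∀ g h, φ (g + h) = φ g + φ h) (hone : φ (𝟙 W) = 𝟙 T)
    (hcomp : ∀ g h, φ (g ≫ h) = φ g ≫ φ h) (hsmul : ∀ (c : k) g, φ (c • g) = c • φ g)
    [Module.Finite k (End W)] [Module.Finite k (U ⟶ T)] :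
    Module.finrank k (End W) ∣ Module.finrank k (U ⟶ T) := by
  classical
  letI : DivisionRing (End W) := DivisionRing.ofIsUnitOrEqZero fun g => by
    by_cases hg : g = 0
    · exact Or.inr hg
    · exact Or.inl (hu g hg)
  have h0 : φ 0 = 0 := by simpa using hadd 0 0
  letI : Module (End W) (U ⟶ T) :=
    { smul := fun g v => v ≫ φ g
      one_smul := fun v => by show v ≫ φ (𝟙 W) = v; rw [hone, Category.comp_id]
      mul_smul := fun g h v => by
        show v ≫ φ (h ≫ g) = (v ≫ φ h) ≫ φ g
        rw [hcomp, Category.assoc]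
      smul_zero := fun g => zero_comp
      smul_add := fun g v w => Preadditive.add_comp _ _ _ _ _ _
      add_smul := fun g h v => by
        show v ≫ φ (g + h) = v ≫ φ g + v ≫ φ h
        rw [hadd, Preadditive.comp_add]
      zero_smul := fun v => by show v ≫ φ 0 = 0; rw [h0, comp_zero] }
  haveI : IsScalarTower k (End W) (U ⟶ T) := ⟨fun c g v => by
    show v ≫ φ (c • (g : W ⟶ W)) = c • (v ≫ φ g)
    rw [hsmul, Linear.comp_smul]⟩
  exact ⟨_, (Module.finrank_mul_finrank k (End W) (U ⟶ T)).symm⟩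

variable {k : Type u} [Field k] {X : Scheme.{u}} (f : X ⟶ Spec (CommRingCat.of k)) {n : ℕ}
variable {K : Type u} [Field K] [Algebra k K] (e : BrSev.Splitting f K n)

include e in
theorem isIntegral_of_splitting : IsIntegral (BrSev.bc f K) := by
  haveI : Nonempty ↥(BrSev.bc f K) := ⟨e.iso.inv (genericPoint _)⟩
  exact isIntegral_of_isOpenImmersion e.iso.hom

theorem isInvertible_twist (j : ℤ) : PicF.IsInvertible (e.twist j) :=
  Groth.PicAux.isInvertible_pullback _ (Groth.PnCoh.isInvertible_twist n K j)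

include e in
theorem connected_of_splitting : ConnectedSpace (BrSev.bc f K) :=
  haveI := isIntegral_of_splitting f e
  inferInstance

theorem twist_zero_iso : Nonempty (e.twist 0 ≅ Coh.structureModule _) := by
  obtain ⟨u⟩ := Groth.Duality.Pn.nonempty_twist_zero_iso' n K
  haveI := isIso_pullUnit e.iso.hom
  exact ⟨(Scheme.Modules.pullback e.iso.hom).mapIso u ≪≫ asIso (pullUnit e.iso.hom)⟩

theorem isTwPow_structure : BrSev.IsTwPow e 0 1 (Coh.structureModule X) := by
  obtain ⟨u⟩ := twist_zero_iso f e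
  haveI := isIso_pullUnit (BrSev.proj f K)
  refine ⟨asIso (pullUnit (BrSev.proj f K)) ≪≫ u.symm ≪≫ ⟨Sigma.ι (fun _ : Fin 1 => e.twist 0) 0,
    Sigma.desc (fun _ => 𝟙 _), by simp, ?_⟩⟩
  refine Sigma.hom_ext _ _ fun i => ?_
  rw [Subsingleton.elim i 0]
  simp

/-- The rank of an indecomposable of type `j` divides the ranks of its products of type zero. -/
theorem mul_dvd_of_isTwPow [IsProper f] [IsAlgClosed K] {j : ℤ} {W W' : X.Modules}
    (hW : FlatMod.IsFinLocFree W) (hW' : FlatMod.IsFinLocFree W') (hWi : KS.Ind W) {r r' : ℕ}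
    (hr : 0 < r) (hWt : BrSev.IsTwPow e j r W) (hW't : BrSev.IsTwPow e (-j) r' W') :
    r * r ∣ r * r' := by
  classical
  haveI := isIntegral_of_splitting f e
  haveI := connected_of_splitting f e
  letI : X.Over (Spec (CommRingCat.of k)) := ⟨f⟩
  haveI : IsProper (X ↘ Spec (CommRingCat.of k)) := ‹IsProper f›
  haveI : IsLocallyNoetherian X := LocallyOfFiniteType.isLocallyNoetherian f
  haveI : IsIntegral (W4bk4gw11416.baseChange f K) := ‹IsIntegral (BrSev.bc f K)›
  have hsurj : Function.Surjective (glob (X ↘ Spec (CommRingCat.of k)) K) :=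
    glob_surjective_of_isIntegral f K
  have hWc := Groth.KTheory.LocFree.isCoh hW
  have hL := isInvertible_twist f e j
  have h0 := isInvertible_twist f e 0
  obtain ⟨eW⟩ := hWt
  obtain ⟨eu⟩ := isTwPow_structure f e
  have hT : BrSev.IsTwPow e (j + -j) (r * r') (CohB1.tensorMod W W') :=
    Groth.Agent.S14204.result k f n K e j (-j) r r' W W' ⟨eW⟩ hW't
  rw [add_neg_cancel] at hT
  obtain ⟨eT⟩ := hT
  have hTc := Groth.KTheory.LocFree.isCoh (Groth.LocFree.isFinLocFree_tensorMod hW hW')
  have hUc : Coh.IsCoh (Coh.structureModule X) := Groth.KTheory.LocFree.isCoh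
    (Groth.LocFree.isFinLocFree_of_rank (Groth.LocFree.isFinLocFreeOfRank_unit X))
  haveI : Module.Finite k (End W) := KS.finite_hom k hWc hWc
  haveI : Module.Finite k (Coh.structureModule X ⟶ CohB1.tensorMod W W') := KS.finite_hom k hUc hTc
  have hdimD : Module.finrank k (End W) = r * r :=
    finrank_hom K hsurj hWc hWc hL (ind_of_isInvertible hL).1 eW eW
  have hdimV : Module.finrank k (Coh.structureModule X ⟶ CohB1.tensorMod W W') = r * r' := by
    simpa using finrank_hom K hsurj hUc hTc h0 (ind_of_isInvertible h0).1 eu eT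
  haveI : Nontrivial (End W) := ⟨⟨𝟙 W, 0, fun h => hWi.1 ((IsZero.iff_id_eq_zero W).2 h)⟩⟩
  have hd := finrank_dvd_of_action (k := k) (fun g hg => isUnit_end K hsurj hWc hWi hL eW hg)
    (Coh.structureModule X) (CohB1.tensorMod W W')
    (fun g => Groth.Misc13.DefoBase.rightTensor W' g) (fun g h => map_add _ g h)
    (KoszTw.tensorMap_id _ _) (fun g h => Groth.Misc13.DefoBase.tensorMap_comp_left g h)
    (fun c g => Groth.Misc13.DefoBase.tensorMap_smul_left c g)
  rw [hdimD, hdimV] at hd
  exact hd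

/-- Opposite types have the same rank. -/
theorem rank_eq_of_isTwPow_neg [IsProper f] [IsAlgClosed K] {j : ℤ} {W W' : X.Modules}
    (hW : FlatMod.IsFinLocFree W) (hW' : FlatMod.IsFinLocFree W') (hWi : KS.Ind W) (hW'i : KS.Ind W')
    {r r' : ℕ} (hr : 0 < r) (hr' : 0 < r') (hWt : BrSev.IsTwPow e j r W)
    (hW't : BrSev.IsTwPow e (-j) r' W') : r = r' := by
  have h1 := Nat.dvd_of_mul_dvd_mul_left hr (mul_dvd_of_isTwPow f e hW hW' hWi hr hWt hW't)
  have h2 := Nat.dvd_of_mul_dvd_mul_left hr'
    (mul_dvd_of_isTwPow f e hW' hW hW'i hr' hW't ((neg_neg j).symm ▸ hWt))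
  exact Nat.dvd_antisymm h1 h2

end Groth.Misc12.NDeuring
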